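import Mathlib
import Cfsg.Prelude.Def_Characters
import Cfsg.Prelude.Def_Blocks
import Cfsg.Agent.Characters.Core
import Cfsg.Agent.Classification.BGIsometry
import Cfsg.Agent.Classification.BGOrder
import Cfsg.Agent.Classification.BGSplit
import Cfsg.Agent.Classification.BGBlockB0
import Cfsg.Agent.Classification.BGValues
import Cfsg.Agent.Classification.RTwo.General
import Cfsg.Agent.TwoFusion.U34Mem

/-!
# The centraliser of an involution with a quotient by an odd normal subgroup, arbitrary fusion

The same as `Classification.RTwo.General` and (the end of) `TwoFusion.U34Mem`, but without the hypothesis that all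
involutions are conjugate: `t` an involution of the finite group `G`, `π : C(t) →* Q` surjective with kernel of
odd order, `π t = z`.

* `SHyp`: these hypotheses;
* `classInner_ind_comp`, `classInner_ind_one`, `ind_one`, `ind_odd`: the functions induced from `b ∘ π`;
* `irr_eq_of_map`, `exists_values`: characters in the principal 2-block are constant on the fibres of `π` over the
  2-elements `q` with `z ∈ zpowers q`;
* `classInner_ind_eq_zero`: the constituents of the functions induced from `b ∘ π` are in the principal 2-block.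
-/

set_option autoImplicit false
set_option linter.unusedSectionVars false

namespace Cfsg.Agent.H602.Sec

open Cfsg Cfsg.Agent.Characters Cfsg.Agent.Blocks Cfsg.Agent.Classification.BGIsometry
  Cfsg.Agent.Classification.BGOrder Cfsg.Agent.Classification.BGSplit
  Cfsg.Agent.Classification.BGBlockB0
open Cfsg.Agent.Classification.RTwo.General (tt t_mem DD tt_comm)
open Cfsg.Agent.TwoFusion.U34Mem (section_sum_eq_zero mem_zpowers_of_mul sameBlock_of_range
  sameBlock_of_surjective)
open scoped ComplexConjugate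

universe u v

/-- `t` is an involution of `G`, `π` is a homomorphism from `C(t)` onto `Q` with kernel of odd order, mapping
`t` to `z`. -/
structure SHyp {G : Type u} [Group G] {Q : Type v} [Group Q] (t : G) (z : Q)
    (π : (Subgroup.centralizer ({t} : Set G)) →* Q) : Prop where
  orderOf_t : orderOf t = 2
  surj : Function.Surjective π
  odd_ker : Odd (Nat.card π.ker)
  map_t : ∀ h : t ∈ Subgroup.centralizer ({t} : Set G), π ⟨t, h⟩ = z

section Basic

variable {G : Type u} [Group G] {Q : Type v} [Group Q] {t : G} {z : Q}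
  {π : (Subgroup.centralizer ({t} : Set G)) →* Q}

theorem map_tt (h : SHyp t z π) : π (tt t) = z := h.map_t _

theorem t_mul_t (h : SHyp t z π) : t * t = 1 := by
  have := pow_orderOf_eq_one t
  rwa [h.orderOf_t, sq] at this

theorem tt_mul_tt (h : SHyp t z π) : tt t * tt t = 1 := Subtype.ext (t_mul_t h)

theorem z_mul_z (h : SHyp t z π) : z * z = 1 := by
  rw [← map_tt h, ← map_mul, tt_mul_tt h, map_one]

theorem t_ne_one (h : SHyp t z π) : t ≠ 1 := by
  rintro rfl
  have := h.orderOf_t
  simp at this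

theorem z_comm (h : SHyp t z π) (q : Q) : Commute z q := by
  obtain ⟨x, rfl⟩ := h.surj q
  rw [← map_tt h]
  exact (tt_comm x).map π

theorem eq_one_of_ker (h : SHyp t z π) {x : Subgroup.centralizer ({t} : Set G)}
    (hx : π x = 1) {m : ℕ} (hxm : x ^ 2 ^ m = 1) : x = 1 := by
  have h1 : (⟨x, hx⟩ : π.ker) ^ Nat.card π.ker = 1 := pow_card_eq_one'
  have h2 : x ^ Nat.card π.ker = 1 := congrArg Subtype.val h1
  have h3 : orderOf x ∣ 2 ^ m := orderOf_dvd_of_pow_eq_one hxm
  have h4 : orderOf x ∣ Nat.card π.ker := orderOf_dvd_of_pow_eq_one h2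
  have h5 : Nat.Coprime (2 ^ m) (Nat.card π.ker) :=
    Nat.Coprime.pow_left _ (Nat.coprime_two_left.2 h.odd_ker)
  have h6 := Nat.dvd_gcd h3 h4
  rw [h5] at h6
  exact orderOf_eq_one_iff.1 (Nat.dvd_one.1 h6)

theorem z_ne_one (h : SHyp t z π) : z ≠ 1 := by
  intro h1
  have h2 : tt t = 1 := eq_one_of_ker h (x := tt t) (by rw [map_tt h, h1]) (m := 1)
    (by rw [pow_one, sq]; exact tt_mul_tt h)
  exact t_ne_one h (congrArg Subtype.val h2)

theorem mem_zpowers_of_map (h : SHyp t z π) {x : Subgroup.centralizer ({t} : Set G)}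
    (hx : z ∈ Subgroup.zpowers (π x)) : t ∈ Subgroup.zpowers (x : G) := by
  obtain ⟨s, hs⟩ := Subgroup.mem_zpowers_iff.1 hx
  have h1 : π (x ^ s * tt t) = 1 := by
    rw [map_mul, map_zpow, hs, map_tt h, z_mul_z h]
  have h2 : (x ^ s * tt t) ^ Nat.card π.ker = 1 :=
    congrArg Subtype.val (pow_card_eq_one' (x := (⟨x ^ s * tt t, h1⟩ : π.ker)))
  have h3 : tt t ^ Nat.card π.ker = tt t := by
    obtain ⟨k, hk⟩ := h.odd_ker
    rw [hk, pow_succ, pow_mul, sq, tt_mul_tt h, one_pow, one_mul]
  rw [((tt_comm x).symm.zpow_left s).mul_pow, h3] at h2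
  have h4 : tt t = ((x ^ s) ^ Nat.card π.ker)⁻¹ := eq_inv_of_mul_eq_one_right h2
  have h5 : t = (((x : G) ^ s) ^ Nat.card π.ker)⁻¹ := by
    have := congrArg Subtype.val h4
    simpa [tt] using this
  have h6 : (((x : G) ^ s) ^ Nat.card π.ker)⁻¹ ∈ Subgroup.zpowers (x : G) :=
    inv_mem (pow_mem (zpow_mem (Subgroup.mem_zpowers _) _) _)
  rw [← h5] at h6
  exact h6

theorem mem_zpowers_iff_map (h : SHyp t z π) {x : Subgroup.centralizer ({t} : Set G)} :
    t ∈ Subgroup.zpowers (x : G) ↔ z ∈ Subgroup.zpowers (π x) := by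
  refine ⟨fun hx => ?_, mem_zpowers_of_map h⟩
  obtain ⟨k, hk⟩ := Subgroup.mem_zpowers_iff.1 hx
  have h1 : x ^ k = tt t := Subtype.ext (by simpa [tt] using hk)
  rw [← map_tt h, ← h1, map_zpow]
  exact zpow_mem (Subgroup.mem_zpowers _) _

theorem supp_comp (h : SHyp t z π) {b : Q → ℂ} (hb : ∀ q, b q ≠ 0 → z ∈ Subgroup.zpowers q) :
    Supp t (fun x => b (π x)) :=
  fun _ hx => mem_zpowers_of_map h (hb _ hx)

theorem supp_of_DD {b : Q → ℂ} (hb : ∀ q, b q ≠ 0 → q ∈ DD z) :
    ∀ q, b q ≠ 0 → z ∈ Subgroup.zpowers q := fun q hq => (hb q hq).1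

end Basic

section Ind

variable {G : Type u} [Group G] [Fintype G] {Q : Type v} [Group Q] [Fintype Q] {t : G} {z : Q}
  {π : (Subgroup.centralizer ({t} : Set G)) →* Q}

/-- Inner products of the induced functions. -/
theorem classInner_ind_comp (h : SHyp t z π)
    {b c : Q → ℂ} (hb : IsClassFunction _ b) (hc : IsClassFunction _ c)
    (hb0 : ∀ q, b q ≠ 0 → z ∈ Subgroup.zpowers q) (hc0 : ∀ q, c q ≠ 0 → z ∈ Subgroup.zpowers q) :
    classInner (indFun (Subgroup.centralizer ({t} : Set G)) (fun x => b (π x)))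
      (indFun (Subgroup.centralizer ({t} : Set G)) (fun x => c (π x))) = classInner b c := by
  classical
  let _ : Fintype (Subgroup.centralizer ({t} : Set G)) := Fintype.ofFinite _
  rw [classInner_indFun_indFun h.orderOf_t (isClassFunction_comp π hb) (isClassFunction_comp π hc)
    (supp_comp h hb0) (supp_comp h hc0), classInner_comp π h.surj]

/-- Inner products with a function whose restriction to `{x | b (π x) ≠ 0}` comes from `Q`. -/
theorem classInner_ind_values (h : SHyp t z π)
    {b c : Q → ℂ} {χ : G → ℂ} (hχ : IsClassFunction G χ)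
    (hc : ∀ x : Subgroup.centralizer ({t} : Set G), b (π x) ≠ 0 → χ x = c (π x)) :
    classInner (indFun (Subgroup.centralizer ({t} : Set G)) (fun x => b (π x))) χ =
      classInner b c := by
  classical
  let _ : Fintype (Subgroup.centralizer ({t} : Set G)) := Fintype.ofFinite _
  rw [classInner_indFun_left _ _ hχ, ← classInner_comp π h.surj b c]
  rw [Core.classInner_def, Core.classInner_def]
  congr 1
  refine Finset.sum_congr rfl fun x _ => ?_
  by_cases hx : b (π x) = 0
  · rw [hx, zero_mul, zero_mul]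
  · rw [hc x hx]

theorem classInner_ind_one (h : SHyp t z π) {b : Q → ℂ} :
    classInner (indFun (Subgroup.centralizer ({t} : Set G)) (fun x => b (π x))) 1 =
      classInner b 1 :=
  classInner_ind_values h
    (Core.isCharacter_isClassFunction (Core.isCharacter_one)) (fun _ _ => rfl)

theorem isGeneralized_ind_comp {b : Q → ℂ} (hb : IsGeneralizedCharacter Q b) :
    IsGeneralizedCharacter G
      (indFun (Subgroup.centralizer ({t} : Set G)) (fun x => b (π x))) := by
  obtain ⟨χ, ψ, hχ, hψ, rfl⟩ := hb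
  exact Brauer.isGeneralizedCharacter_indFun _
    ⟨fun x => χ (π x), fun x => ψ (π x), Core.isCharacter_comp π hχ, Core.isCharacter_comp π hψ,
      rfl⟩

theorem ind_odd (h : SHyp t z π) {b : Q → ℂ} (hb : ∀ q, b q ≠ 0 → z ∈ Subgroup.zpowers q) {g : G}
    (hg : Odd (orderOf g)) :
    indFun (Subgroup.centralizer ({t} : Set G)) (fun x => b (π x)) g = 0 :=
  indFun_eq_zero_of_odd h.orderOf_t (supp_comp h hb) hg

theorem ind_one (h : SHyp t z π) {b : Q → ℂ} (hb : ∀ q, b q ≠ 0 → z ∈ Subgroup.zpowers q) :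
    indFun (Subgroup.centralizer ({t} : Set G)) (fun x => b (π x)) 1 = 0 :=
  ind_odd h hb (by rw [orderOf_one]; exact odd_one)

end Ind

section Values

variable {G : Type u} [Group G] [Finite G] {Q : Type v} [Group Q] {t : G} {z : Q}
  {π : (Subgroup.centralizer ({t} : Set G)) →* Q}

/-- The 2-part of an element of `C(t)` mapping to a 2-element. -/
theorem exists_two_part (h : SHyp t z π) (x : Subgroup.centralizer ({t} : Set G)) {m : ℕ}
    (hx : π x ^ 2 ^ m = 1) :
    ∃ a u : Subgroup.centralizer ({t} : Set G), x = a * u ∧ π a = π x ∧ π u = 1 ∧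
      a ^ 2 ^ m = 1 ∧ Commute a u := by
  have hcop : Nat.Coprime (2 ^ m) (Nat.card π.ker) :=
    Nat.Coprime.pow_left _ (Nat.coprime_two_left.2 h.odd_ker)
  obtain ⟨k, hk1, hk2⟩ := Nat.chineseRemainder hcop 1 0
  have hxn : π (x ^ 2 ^ m) = 1 := by rw [map_pow, hx]
  have h1 : (x ^ 2 ^ m) ^ Nat.card π.ker = 1 :=
    congrArg Subtype.val (pow_card_eq_one' (x := (⟨x ^ 2 ^ m, hxn⟩ : π.ker)))
  have hpa : π (x ^ k) = π x := by
    rw [map_pow]
    have h2 : k ≡ 1 [MOD orderOf (π x)] :=
      hk1.of_dvd (orderOf_dvd_of_pow_eq_one hx)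
    have := (pow_eq_pow_iff_modEq (x := π x)).2 h2
    rw [this, pow_one]
  refine ⟨x ^ k, (x ^ k)⁻¹ * x, by group, hpa, ?_, ?_, ?_⟩
  · rw [map_mul, map_inv, hpa, inv_mul_cancel]
  · obtain ⟨c, hc⟩ := (Nat.modEq_zero_iff_dvd).1 hk2
    rw [hc, ← pow_mul]
    have : Nat.card π.ker * c * 2 ^ m = 2 ^ m * Nat.card π.ker * c := by ring
    rw [this, pow_mul, pow_mul, h1, one_pow]
  · have h3 : Commute (x ^ k) x := (Commute.refl x).pow_left k
    exact (Commute.refl (x ^ k)).inv_right.mul_right h3

/-- A character of the principal 2-block has the same value at `a * u` and at `a`, for a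
2-element `a` having `t` as a power and `u` in the kernel commuting with `a`. -/
theorem irr_eq_two_part (h : SHyp t z π) (M : Ideal AlgInt) (hM : IsPModular 2 M)
    (χ : IrrCharacter G) (hχ : χ ∈ principalBlock M G)
    (a u : Subgroup.centralizer ({t} : Set G)) (hta : t ∈ Subgroup.zpowers (a : G)) {m : ℕ}
    (han : a ^ 2 ^ m = 1) (hu : π u = 1) (hau : Commute a u) :
    (χ : G → ℂ) ((a : G) * (u : G)) = (χ : G → ℂ) a := by
  have : Fact (Nat.Prime 2) := ⟨Nat.prime_two⟩
  have hle : Subgroup.centralizer ({(a : G)} : Set G) ≤ Subgroup.centralizer ({t} : Set G) := by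
    intro y hy
    rw [Subgroup.mem_centralizer_singleton_iff] at hy ⊢
    obtain ⟨k, hk⟩ := Subgroup.mem_zpowers_iff.1 hta
    have hy' : Commute y (a : G) := hy
    rw [← hk]
    exact (hy'.zpow_right k).eq
  set N : Subgroup (Subgroup.centralizer ({(a : G)} : Set G)) :=
    (π.comp (Subgroup.inclusion hle)).ker with hN
  have hNodd : (Nat.card N).Coprime 2 := by
    rw [Nat.coprime_two_right]
    refine Odd.of_dvd_nat h.odd_ker ?_
    have hinj : Function.Injective
        (((Subgroup.inclusion hle).comp N.subtype).codRestrict π.ker (fun x => x.2)) := by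
      intro x y hxy
      have h1 : Subgroup.inclusion hle x.1 = Subgroup.inclusion hle y.1 :=
        congrArg Subtype.val hxy
      exact Subtype.ext (Subgroup.inclusion_injective hle h1)
    exact Subgroup.card_dvd_of_injective _ hinj
  have hNle : N ≤ pPrimeCore 2 _ :=
    Cfsg.Agent.Lib.Cores.le_pPrimeCore inferInstance hNodd
  have huC : (u : G) ∈ Subgroup.centralizer ({(a : G)} : Set G) := by
    rw [Subgroup.mem_centralizer_singleton_iff]
    have := congrArg Subtype.val hau.eq
    exact this.symm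
  have hv : (u : G) ∈ centralizerPPrimeCore 2 (a : G) := by
    refine ⟨⟨u, huC⟩, hNle ?_, rfl⟩
    rw [hN, MonoidHom.mem_ker, MonoidHom.comp_apply]
    exact hu
  refine Cfsg.Agent.S0942.result 2 M hM (a : G) ?_ (u : G) hv χ hχ
  have h1 : (a : G) ^ 2 ^ m = 1 := congrArg Subtype.val han
  obtain ⟨l, -, hl⟩ := (Nat.dvd_prime_pow Nat.prime_two).1 (orderOf_dvd_of_pow_eq_one h1)
  exact ⟨l, hl⟩

/-- A character of the principal 2-block is constant on the fibres of `π` over the 2-elements
having `z` as a power. -/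
theorem irr_eq_of_map (h : SHyp t z π) (M : Ideal AlgInt) (hM : IsPModular 2 M)
    (χ : IrrCharacter G) (hχ : χ ∈ principalBlock M G)
    (x y : Subgroup.centralizer ({t} : Set G)) (hx : π x ∈ DD z) (hxy : π x = π y) :
    (χ : G → ℂ) x = (χ : G → ℂ) y := by
  obtain ⟨hz, m, hm⟩ := hx
  obtain ⟨a, u, hxa, hpa, hpu, han, hau⟩ := exists_two_part h x hm
  obtain ⟨b, v, hyb, hpb, hpv, hbn, hbv⟩ := exists_two_part h y (m := m) (by rw [← hxy, hm])
  have h1 : (χ : G → ℂ) x = (χ : G → ℂ) a := by
    have := irr_eq_two_part h M hM χ hχ a u (mem_zpowers_of_map h (by rw [hpa]; exact hz)) han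
      hpu hau
    rw [← this, hxa]; rfl
  have h2 : (χ : G → ℂ) y = (χ : G → ℂ) b := by
    have := irr_eq_two_part h M hM χ hχ b v
      (mem_zpowers_of_map h (by rw [hpb, ← hxy]; exact hz)) hbn hpv hbv
    rw [← this, hyb]; rfl
  have h3 : IsConj a b :=
    Cfsg.Agent.Classification.BGValues.isConj_of_ker_odd π h.odd_ker a b m han hbn (by rw [hpa, hpb, hxy])
  obtain ⟨c, hc⟩ := isConj_iff.1 h3
  have h4 : (χ : G → ℂ) b = (χ : G → ℂ) a := by
    rw [← hc]
    exact Core.isIrr_isClassFunction χ.2 (a : G) (c : G)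
  rw [h1, h2, h4]

theorem inB_eq_of_map (h : SHyp t z π) (M : Ideal AlgInt) (hM : IsPModular 2 M)
    {X : G → ℂ} (hX : InB (principalBlock M G) X)
    (x y : Subgroup.centralizer ({t} : Set G)) (hx : π x ∈ DD z) (hxy : π x = π y) :
    X x = X y := by
  obtain ⟨χ, hχ, rfl | rfl⟩ := hX
  · exact irr_eq_of_map h M hM χ hχ x y hx hxy
  · rw [Pi.neg_apply, Pi.neg_apply, irr_eq_of_map h M hM χ hχ x y hx hxy]

/-- On the preimage of `DD z` a character of the principal block comes from a class function
of `Q`. -/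
theorem exists_values (h : SHyp t z π) (M : Ideal AlgInt) (hM : IsPModular 2 M)
    {X : G → ℂ} (hX : InB (principalBlock M G) X) :
    ∃ F : Q → ℂ, IsClassFunction Q F ∧
      ∀ x : Subgroup.centralizer ({t} : Set G), π x ∈ DD z → X x = F (π x) := by
  classical
  choose s hs using h.surj
  have hDD : ∀ q g : Q, q ∈ DD z → g * q * g⁻¹ ∈ DD z := by
    rintro q g ⟨h1, m, h2⟩
    refine ⟨?_, m, by rw [conj_pow, h2]; group⟩
    obtain ⟨k, hk⟩ := Subgroup.mem_zpowers_iff.1 h1
    refine Subgroup.mem_zpowers_iff.2 ⟨k, ?_⟩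
    rw [conj_zpow, hk, ← (z_comm h g).eq, mul_inv_cancel_right]
  refine ⟨fun q => if q ∈ DD z then X (s q) else 0, ?_, ?_⟩
  · intro q g
    have hiff : g * q * g⁻¹ ∈ DD z ↔ q ∈ DD z := by
      refine ⟨fun h1 => ?_, hDD q g⟩
      have h2 := hDD _ g⁻¹ h1
      have h3 : g⁻¹ * (g * q * g⁻¹) * g⁻¹⁻¹ = q := by group
      rwa [h3] at h2
    by_cases hq : q ∈ DD z
    · have hq' : g * q * g⁻¹ ∈ DD z := hDD q g hq
      simp only [if_pos hq, if_pos hq']
      have h1 : X (s (g * q * g⁻¹)) = X (s g * s q * (s g)⁻¹ : Subgroup.centralizer ({t} : Set G)) := by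
        refine inB_eq_of_map h M hM hX _ _ (by rw [hs]; exact hq') ?_
        rw [hs, map_mul, map_mul, map_inv, hs, hs]
      rw [h1]
      exact isClassFunction_signed hX.signedIrr (s q : G) (s g : G)
    · have hq' : ¬ g * q * g⁻¹ ∈ DD z := fun h1 => hq (hiff.1 h1)
      simp only [if_neg hq, if_neg hq']
  · intro x hx
    simp only [if_pos hx]
    exact inB_eq_of_map h M hM hX _ _ hx (hs _).symm

end Values

section Main

open Cfsg.Agent.Classification.BGIsometry

variable {G : Type u} [Group G] {Q : Type v} [Group Q] {t : G} {z : Q}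
  {π : (Subgroup.centralizer ({t} : Set G)) →* Q}

theorem two_dvd_orderOf_iff [Finite G] (h : SHyp t z π) (y : Subgroup.centralizer ({t} : Set G)) :
    2 ∣ orderOf y ↔ 2 ∣ orderOf (π y) := by
  refine ⟨fun h2 => ?_, fun h2 => h2.trans (orderOf_map_dvd π y)⟩
  by_contra hn
  have h1 : π (y ^ orderOf (π y)) = 1 := by rw [map_pow, pow_orderOf_eq_one]
  have h3 : (y ^ orderOf (π y)) ^ Nat.card π.ker = 1 :=
    congrArg Subtype.val (pow_card_eq_one' (x := (⟨y ^ orderOf (π y), h1⟩ : π.ker)))
  rw [← pow_mul] at h3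
  have h4 : 2 ∣ orderOf (π y) * Nat.card π.ker := h2.trans (orderOf_dvd_of_pow_eq_one h3)
  rcases (Nat.Prime.dvd_mul Nat.prime_two).1 h4 with h5 | h5
  · exact hn h5
  · have := h.odd_ker
    rw [← Nat.not_even_iff_odd] at this
    exact this (even_iff_two_dvd.2 h5)

theorem classInner_ind_eq_zero [Fintype G] {M : Ideal AlgInt} (hM : IsPModular 2 M)
    (h : SHyp t z π) {P : Subgroup Q} (hPn : P.Normal) (hP : IsPGroup 2 P)
    (hPc : Subgroup.centralizer (P : Set Q) ≤ P)
    (hcen : ∀ q ∈ DD z, q ≠ z → IsPGroup 2 (Subgroup.centralizer ({q} : Set Q)))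
    {b : Q → ℂ} (hb : IsClassFunction Q b) (hb0 : ∀ q, b q ≠ 0 → z ∈ Subgroup.zpowers q)
    {χ : IrrCharacter G} (hχ : χ ∉ principalBlock M G) :
    classInner (indFun (Subgroup.centralizer ({t} : Set G)) (fun x => b (π x))) (χ : G → ℂ) = 0 := by
  classical
  have : Fact (Nat.Prime 2) := ⟨Nat.prime_two⟩
  let _ : Fintype (Subgroup.centralizer ({t} : Set G)) := Fintype.ofFinite _
  rw [classInner_indFun_left _ _ (Core.isIrr_isClassFunction χ.2), Core.classInner_def,
    SectionSum.sum_eq_sum_sections 2, Finset.sum_eq_zero, mul_zero]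
  intro x hx
  rw [Finset.mem_filter] at hx
  obtain ⟨k, hk⟩ := hx.2
  by_cases hz : z ∈ Subgroup.zpowers (π x)
  · -- the section of `x`
    have htx : t ∈ Subgroup.zpowers (x : G) := mem_zpowers_of_map h hz
    have hle : Subgroup.centralizer ({(x : G)} : Set G) ≤ Subgroup.centralizer ({t} : Set G) := by
      intro y hy
      rw [Subgroup.mem_centralizer_singleton_iff] at hy ⊢
      obtain ⟨k, hk⟩ := Subgroup.mem_zpowers_iff.1 htx
      have hy' : Commute y (x : G) := hy
      rw [← hk]
      exact (hy'.zpow_right k).eq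
    let _ : Fintype (Subgroup.centralizer ({(x : G)} : Set G)) := Fintype.ofFinite _
    set φ : Subgroup.centralizer ({(x : G)} : Set G) →* Q := π.comp (Subgroup.inclusion hle) with hφ
    have hφa : ∀ y, φ y = π (Subgroup.inclusion hle y) := fun y => rfl
    set g : Subgroup.centralizer ({(x : G)} : Set G) → ℂ := fun y =>
      if 2 ∣ orderOf (φ y) then 0 else b (π x * φ y) with hg
    have hxc : ∀ y : Subgroup.centralizer ({(x : G)} : Set G),
        Commute x (Subgroup.inclusion hle y) := by
      intro y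
      have h1 := Subgroup.mem_centralizer_singleton_iff.mp y.2
      exact Subtype.ext h1.symm
    have hxc' : ∀ y : Subgroup.centralizer ({(x : G)} : Set G), Commute (π x) (φ y) :=
      fun y => (hxc y).map π
    have hpx : π x ∈ DD z := ⟨hz, k, by rw [← map_pow, ← hk, pow_orderOf_eq_one, map_one]⟩
    have key : ∑ y : Subgroup.centralizer ({(x : G)} : Set G),
        g y * conj ((χ : G → ℂ) ((x : G) * (y : G))) = 0 := by
      refine section_sum_eq_zero hM (x : G) ⟨k, by rw [Subgroup.orderOf_coe]; exact hk⟩ hχ φ.ker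
        ?_ ?_ ?_ ?_
      · by_cases hxz : π x = z
        · have hxt : x = tt t := by
            have h1 : π (x * tt t) = 1 := by rw [map_mul, hxz, map_tt h, z_mul_z h]
            have h2 : x * tt t = 1 := by
              refine eq_one_of_ker h h1 (m := k + 1) ?_
              have h3 : Commute x (tt t) := (tt_comm x).symm
              rw [h3.mul_pow, pow_succ, pow_mul, ← hk, pow_orderOf_eq_one, one_pow, one_mul,
                pow_mul', sq, tt_mul_tt h, one_pow]
            calc x = x * (tt t * tt t) := by rw [tt_mul_tt h, mul_one]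
              _ = tt t := by rw [← mul_assoc, h2, one_mul]
          refine sameBlock_of_surjective hM φ ?_ hPn hP hPc
          intro q
          obtain ⟨y, rfl⟩ := h.surj q
          have hy : (y : G) ∈ Subgroup.centralizer ({(x : G)} : Set G) := by
            rw [hxt]
            exact y.2
          exact ⟨⟨y, hy⟩, rfl⟩
        · refine sameBlock_of_range hM φ ?_
          refine (hcen _ hpx hxz).to_le ?_
          rintro _ ⟨y, rfl⟩
          rw [Subgroup.mem_centralizer_singleton_iff]
          exact (hxc' y).eq.symm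
      · intro y c
        simp only [hg]
        have h1 : φ (c * y * c⁻¹) = φ c * φ y * (φ c)⁻¹ := by rw [map_mul, map_mul, map_inv]
        have h2 : orderOf (φ c * φ y * (φ c)⁻¹) = orderOf (φ y) :=
          Cfsg.Agent.Classification.BGIsometry.orderOf_conj _ _
        have h3 : π x * (φ c * φ y * (φ c)⁻¹) = φ c * (π x * φ y) * (φ c)⁻¹ := by
          rw [← mul_assoc, ← mul_assoc, (hxc' c).eq]
          group
        rw [h1, h2, h3, hb]
      · intro n hn y
        simp only [hg]
        rw [map_mul, MonoidHom.mem_ker.1 hn, one_mul]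
      · intro y hy
        simp only [hg]
        rw [if_pos]
        have h1 : orderOf y = orderOf (Subgroup.inclusion hle y) :=
          (orderOf_injective _ (Subgroup.inclusion_injective hle) y).symm
        rw [h1] at hy
        exact (two_dvd_orderOf_iff h _).1 hy
    rw [← key]
    symm
    rw [← Finset.sum_filter_add_sum_filter_not Finset.univ
      (fun y : Subgroup.centralizer ({(x : G)} : Set G) => 2 ∣ orderOf (φ y)), Finset.sum_eq_zero,
      zero_add]
    · refine Finset.sum_bij (fun y _ => Subgroup.inclusion hle y) ?_ ?_ ?_ ?_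
      · intro y hy
        rw [Finset.mem_filter] at hy ⊢
        exact ⟨Finset.mem_univ _, hxc y, fun h1 => hy.2 ((two_dvd_orderOf_iff h _).1 h1)⟩
      · intro y _ y' _ hyy
        exact Subgroup.inclusion_injective hle hyy
      · intro y hy
        rw [Finset.mem_filter] at hy
        have h1 : (y : G) ∈ Subgroup.centralizer ({(x : G)} : Set G) := by
          rw [Subgroup.mem_centralizer_singleton_iff]
          have := congrArg Subtype.val hy.2.1.eq
          exact this.symm
        refine ⟨⟨y, h1⟩, ?_, rfl⟩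
        rw [Finset.mem_filter]
        exact ⟨Finset.mem_univ _, fun h2 => hy.2.2 ((two_dvd_orderOf_iff h _).2 h2)⟩
      · intro y hy
        rw [Finset.mem_filter] at hy
        simp only [hg]
        rw [if_neg hy.2, map_mul, hφa]
        rfl
    · intro y hy
      rw [Finset.mem_filter] at hy
      simp only [hg]
      rw [if_pos hy.2, zero_mul]
  · refine Finset.sum_eq_zero fun y hy => ?_
    rw [Finset.mem_filter] at hy
    have h1 : b (π (x * y)) = 0 := by
      by_contra hne
      have h2 := hb0 _ hne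
      rw [map_mul] at h2
      refine hz (mem_zpowers_of_mul (z_mul_z h) (hy.2.1.map π) ?_ h2)
      intro h3
      exact hy.2.2 (h3.trans (orderOf_map_dvd π y))
    rw [h1, zero_mul]

end Main

end Cfsg.Agent.H602.Sec
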