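import Mathlib
import Cfsg.Agent.Classification.BGBlock
import Cfsg.Agent.H602.Dih.Sec

/-!
# Groups with a dihedral Sylow 2-subgroup, arbitrary fusion: the set-up

`DHyp t n π`: `t` an involution of the finite group `G`, `π : C(t) →* DihedralGroup n` surjective with odd kernel,
`n = 2 ^ m`, `m ≥ 1`, `π t` the central rotation. The lemmas are those of `Classification.BGBasic`,
`Classification.BGIsometry`, `Classification.BGValues`, without the hypothesis that all involutions are conjugate.
-/

set_option autoImplicit false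
set_option linter.unusedSectionVars false

namespace Cfsg.Agent.H602.Dih

open DihedralGroup Cfsg Cfsg.Agent.Characters Cfsg.Agent.Classification.BGDefs
open Cfsg.Agent.Classification.BGOrder Cfsg.Agent.Classification.BGFourier
open Cfsg.Agent.Classification.BGBasic (half_ne_zero half_add_half eq_zero_or_half t_mem tt tt_comm)
open Cfsg.Agent.Classification.BGIsometry (Supp indFun_eq isClassFunction_comp classInner_indFun_indFun
  classInner_comp classInner_indFun_left)
open Cfsg.Agent.Classification.BGValues (isConj_of_ker_odd SignedB0 SignedB0.signedIrr SignedIrr.isClassFunction mu_neg)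
open scoped ComplexConjugate

universe u

/-- `t` is an involution of `G` and `π` a homomorphism from `C(t)` onto a dihedral 2-group of order `2 n ≥ 4`, with
kernel of odd order, mapping `t` to the central rotation. -/
structure DHyp {G : Type*} [Group G] (t : G) (n : ℕ)
    (π : (Subgroup.centralizer ({t} : Set G)) →* DihedralGroup n) : Prop where
  /-- `t` is an involution -/
  orderOf_t : orderOf t = 2
  /-- `n` is a power of two, at least `2` -/
  pow : ∃ m : ℕ, 1 ≤ m ∧ n = 2 ^ m
  surj : Function.Surjective π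
  odd_ker : Odd (Nat.card π.ker)
  /-- `t` is mapped to the central rotation -/
  map_t : ∀ h : t ∈ Subgroup.centralizer ({t} : Set G), π ⟨t, h⟩ = r ((n / 2 : ℕ) : ZMod n)

theorem DHyp.sHyp {G : Type*} [Group G] {t : G} {n : ℕ}
    {π : (Subgroup.centralizer ({t} : Set G)) →* DihedralGroup n} (h : DHyp t n π) :
    Sec.SHyp t (r ((n / 2 : ℕ) : ZMod n)) π where
  orderOf_t := h.orderOf_t
  surj := h.surj
  odd_ker := h.odd_ker
  map_t := h.map_t

section Hyp

variable {G : Type*} [Group G] {t : G} {n : ℕ} [NeZero n]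
  {π : (Subgroup.centralizer ({t} : Set G)) →* DihedralGroup n}

theorem two_dvd (h : DHyp t n π) : 2 ∣ n := by
  obtain ⟨m, hm, rfl⟩ := h.pow
  exact dvd_pow_self 2 (by omega)

theorem map_tt (h : DHyp t n π) : π (tt t) = r ((n / 2 : ℕ) : ZMod n) := h.map_t _

theorem t_mul_t (h : DHyp t n π) : t * t = 1 := by
  have := pow_orderOf_eq_one t
  rwa [h.orderOf_t, sq] at this

theorem tt_mul_tt (h : DHyp t n π) : tt t * tt t = 1 := Subtype.ext (t_mul_t h)

theorem t_ne_one (h : DHyp t n π) : t ≠ 1 := by
  rintro rfl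
  have := h.orderOf_t
  simp at this

theorem tt_ne_one (h : DHyp t n π) : tt t ≠ 1 := fun h' => t_ne_one h (congrArg Subtype.val h')

theorem eq_one_of_ker (h : DHyp t n π) {x : Subgroup.centralizer ({t} : Set G)}
    (hx : π x = 1) (hx2 : x * x = 1) : x = 1 := by
  have h1 : (⟨x, hx⟩ : π.ker) ^ Nat.card π.ker = 1 := pow_card_eq_one'
  have h2 : x ^ Nat.card π.ker = 1 := congrArg Subtype.val h1
  obtain ⟨k, hk⟩ := h.odd_ker
  rw [hk, pow_succ, pow_mul, sq, hx2, one_pow, one_mul] at h2
  exact h2

theorem mem_zpowers_of_rot (h : DHyp t n π) {x : Subgroup.centralizer ({t} : Set G)}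
    {j : ZMod n} (hj : j ≠ 0) (hx : π x = r j) : t ∈ Subgroup.zpowers (x : G) := by
  -- some power of `r j` is `r (n/2)`
  obtain ⟨s, hs⟩ : ∃ s : ℕ, (r j : DihedralGroup n) ^ s = r ((n / 2 : ℕ) : ZMod n) := by
    obtain ⟨m, hm, hn⟩ := h.pow
    have h1 : (r j : DihedralGroup n) ^ (2 ^ m) = 1 := by
      rw [← hn, r_pow, ZMod.natCast_self, mul_zero, DihedralGroup.one_def]
    have h2 : (r j : DihedralGroup n) ≠ 1 := by
      rw [DihedralGroup.one_def]
      intro h3
      exact hj (r.inj h3)
    obtain ⟨c, -, hc⟩ := (Nat.dvd_prime_pow Nat.prime_two).mp (orderOf_dvd_of_pow_eq_one h1)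
    have hc0 : c ≠ 0 := by
      rintro rfl
      rw [pow_zero, orderOf_eq_one_iff] at hc
      exact h2 hc
    obtain ⟨c, rfl⟩ := Nat.exists_eq_succ_of_ne_zero hc0
    refine ⟨2 ^ c, ?_⟩
    have h3 : (r j : DihedralGroup n) ^ (2 ^ c) * (r j : DihedralGroup n) ^ (2 ^ c) = 1 := by
      rw [← pow_add, ← two_mul, ← pow_succ', ← Nat.succ_eq_add_one, ← hc, pow_orderOf_eq_one]
    have h4 : (r j : DihedralGroup n) ^ (2 ^ c) ≠ 1 := by
      intro h5
      have h6 := orderOf_dvd_of_pow_eq_one h5
      rw [hc, Nat.pow_dvd_pow_iff_le_right (by norm_num)] at h6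
      omega
    rw [r_pow] at h3 h4 ⊢
    rw [r_mul_r, DihedralGroup.one_def] at h3
    rcases eq_zero_or_half (r.inj h3) with h5 | h5
    · rw [h5] at h4
      exact absurd DihedralGroup.one_def.symm h4
    · rw [h5]
  have h1 : π (x ^ s * tt t) = 1 := by
    rw [map_mul, map_pow, hx, hs, map_tt h, r_mul_r, half_add_half (two_dvd h),
      DihedralGroup.one_def]
  have h2 : (x ^ s * tt t) ^ Nat.card π.ker = 1 :=
    congrArg Subtype.val (pow_card_eq_one' (x := (⟨x ^ s * tt t, h1⟩ : π.ker)))
  have h3 : tt t ^ Nat.card π.ker = tt t := by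
    obtain ⟨k, hk⟩ := h.odd_ker
    rw [hk, pow_succ, pow_mul, sq, tt_mul_tt h, one_pow, one_mul]
  rw [((tt_comm x).symm.pow_left s).mul_pow, h3, ← pow_mul] at h2
  have h4 : tt t = (x ^ (s * Nat.card π.ker))⁻¹ := eq_inv_of_mul_eq_one_right h2
  have h5 : t = ((x : G) ^ (s * Nat.card π.ker))⁻¹ := by
    have := congrArg Subtype.val h4
    simpa [tt] using this
  have h6 : ((x : G) ^ (s * Nat.card π.ker))⁻¹ ∈ Subgroup.zpowers (x : G) :=
    inv_mem (Subgroup.npow_mem_zpowers _ _)
  rw [← h5] at h6
  exact h6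

theorem rot_of_mem_zpowers (h : DHyp t n π) {x : Subgroup.centralizer ({t} : Set G)}
    (hx : t ∈ Subgroup.zpowers (x : G)) : ∃ j : ZMod n, j ≠ 0 ∧ π x = r j := by
  obtain ⟨k, hk⟩ := Subgroup.mem_zpowers_iff.mp hx
  have h1 : x ^ k = tt t := Subtype.ext (by simpa [tt] using hk)
  have h2 : (π x) ^ k = r ((n / 2 : ℕ) : ZMod n) := by rw [← map_zpow, h1, map_tt h]
  have hhalf := half_ne_zero (two_dvd h)
  match hπ : π x with
  | r j =>
    refine ⟨j, ?_, rfl⟩
    rintro rfl
    rw [hπ, ← DihedralGroup.one_def, one_zpow, DihedralGroup.one_def] at h2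
    exact hhalf (r.inj h2).symm
  | sr j =>
    exfalso
    rw [hπ] at h2
    have h3 : (sr j : DihedralGroup n) * sr j = 1 := sr_mul_self j
    rcases Int.even_or_odd' k with ⟨c, rfl | rfl⟩
    · rw [zpow_mul, zpow_ofNat, sq, h3, one_zpow, DihedralGroup.one_def] at h2
      exact hhalf (r.inj h2).symm
    · rw [zpow_add, zpow_mul, zpow_ofNat, sq, h3, one_zpow, zpow_one, one_mul] at h2
      exact absurd h2 (by simp)

theorem mem_zpowers_iff_rot (h : DHyp t n π) {x : Subgroup.centralizer ({t} : Set G)} :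
    t ∈ Subgroup.zpowers (x : G) ↔ ∃ j : ZMod n, j ≠ 0 ∧ π x = r j :=
  ⟨rot_of_mem_zpowers h, fun ⟨_, hj, hx⟩ => mem_zpowers_of_rot h hj hx⟩

/-- The involutions of `C(t)` other than `t` map to reflections. -/
theorem eq_tt_or_sr (h : DHyp t n π) {x : Subgroup.centralizer ({t} : Set G)}
    (hx : orderOf x = 2) : x = tt t ∨ ∃ j : ZMod n, π x = sr j := by
  have hxx : x * x = 1 := by
    have := pow_orderOf_eq_one x
    rwa [hx, sq] at this
  have hx1 : x ≠ 1 := by
    rintro rfl
    simp at hx
  match hπ : π x with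
  | sr j => exact Or.inr ⟨j, rfl⟩
  | r j =>
    left
    have h1 : (r j : DihedralGroup n) * r j = 1 := by rw [← hπ, ← map_mul, hxx, map_one]
    rw [r_mul_r, DihedralGroup.one_def] at h1
    rcases eq_zero_or_half (r.inj h1) with h2 | h2
    · rw [h2, ← DihedralGroup.one_def] at hπ
      exact absurd (eq_one_of_ker h hπ hxx) hx1
    · have h3 : π (x * tt t) = 1 := by
        rw [map_mul, hπ, map_tt h, h2, r_mul_r, half_add_half (two_dvd h), DihedralGroup.one_def]
      have h4 : (x * tt t) * (x * tt t) = 1 := by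
        have h5 := (tt_comm x).symm.eq
        calc (x * tt t) * (x * tt t) = x * (tt t * x) * tt t := by group
          _ = (x * x) * (tt t * tt t) := by rw [← h5]; group
          _ = 1 := by rw [hxx, tt_mul_tt h, one_mul]
      have h5 := eq_one_of_ker h h3 h4
      rw [mul_eq_one_iff_eq_inv] at h5
      rw [h5]
      exact inv_eq_of_mul_eq_one_left (tt_mul_tt h)

/-- A function `b` on the dihedral group vanishing at `1` and the reflections, inflated to
`C(t)`, vanishes off `{x | t ∈ zpowers x}`. -/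
theorem mem_zpowers_of_ne_zero (h : DHyp t n π) (b : DihedralGroup n → ℂ) (hb1 : b 1 = 0)
    (hbs : ∀ j, b (sr j) = 0) (x : Subgroup.centralizer ({t} : Set G)) (hx : b (π x) ≠ 0) :
    t ∈ Subgroup.zpowers (x : G) := by
  match hπ : π x with
  | sr j => rw [hπ] at hx; exact absurd (hbs j) hx
  | r j =>
    refine mem_zpowers_of_rot h (j := j) ?_ hπ
    rintro rfl
    rw [hπ, ← DihedralGroup.one_def] at hx
    exact hx hb1

end Hyp

section Main

variable {G : Type*} [Group G] [Fintype G] {t : G} {n : ℕ} [NeZero n]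
  {π : (Subgroup.centralizer ({t} : Set G)) →* DihedralGroup n}

theorem supp_comp (h : DHyp t n π) (b : DihedralGroup n → ℂ) (hb1 : b 1 = 0)
    (hbs : ∀ j, b (DihedralGroup.sr j) = 0) : Supp t (fun x => b (π x)) :=
  fun x hx => mem_zpowers_of_ne_zero h b hb1 hbs x hx

theorem supp_bth (h : DHyp t n π) (i : ZMod n) : Supp t (fun x => bth i (π x)) :=
  supp_comp h _ (bth_one i) (bth_sr i)

theorem supp_bmu (h : DHyp t n π) : Supp t (fun x => bmu (π x)) :=
  supp_comp h _ bmu_one bmu_sr

/-- The value of the induced function on `{h | t ∈ zpowers h}`. -/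
theorem indFun_comp_eq (h : DHyp t n π) {b : DihedralGroup n → ℂ} (hb : IsClassFunction _ b)
    (hb1 : b 1 = 0) (hbs : ∀ j, b (DihedralGroup.sr j) = 0)
    {x : Subgroup.centralizer ({t} : Set G)} {j : ZMod n} (hj : j ≠ 0)
    (hx : π x = DihedralGroup.r j) :
    indFun (Subgroup.centralizer ({t} : Set G)) (fun x => b (π x)) (x : G) =
      b (DihedralGroup.r j) := by
  rw [indFun_eq h.orderOf_t (isClassFunction_comp π hb) (supp_comp h b hb1 hbs)
    (mem_zpowers_of_rot h hj hx), hx]

/-- Inner products of the functions induced from functions on the dihedral group. -/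
theorem classInner_ind_comp (h : DHyp t n π) [Fintype (DihedralGroup n)]
    {b c : DihedralGroup n → ℂ} (hb : IsClassFunction _ b) (hc : IsClassFunction _ c)
    (hb1 : b 1 = 0) (hbs : ∀ j, b (DihedralGroup.sr j) = 0)
    (hc1 : c 1 = 0) (hcs : ∀ j, c (DihedralGroup.sr j) = 0) :
    classInner (indFun (Subgroup.centralizer ({t} : Set G)) (fun x => b (π x)))
      (indFun (Subgroup.centralizer ({t} : Set G)) (fun x => c (π x))) = classInner b c := by
  classical
  let _ : Fintype (Subgroup.centralizer ({t} : Set G)) := Fintype.ofFinite _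
  rw [classInner_indFun_indFun h.orderOf_t (isClassFunction_comp π hb) (isClassFunction_comp π hc)
    (supp_comp h b hb1 hbs) (supp_comp h c hc1 hcs), classInner_comp π h.surj]

/-- Inner products with a function whose restriction to `{h | t ∈ zpowers h}` comes from
the dihedral group. -/
theorem classInner_ind_comp_left (h : DHyp t n π) [Fintype (DihedralGroup n)]
    {b c : DihedralGroup n → ℂ} (hb1 : b 1 = 0) (hbs : ∀ j, b (DihedralGroup.sr j) = 0)
    {χ : G → ℂ} (hχ : IsClassFunction G χ)
    (hc : ∀ (x : Subgroup.centralizer ({t} : Set G)) (j : ZMod n), j ≠ 0 →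
      π x = DihedralGroup.r j → χ x = c (DihedralGroup.r j)) :
    classInner (indFun (Subgroup.centralizer ({t} : Set G)) (fun x => b (π x))) χ =
      classInner b c := by
  classical
  let _ : Fintype (Subgroup.centralizer ({t} : Set G)) := Fintype.ofFinite _
  rw [classInner_indFun_left _ _ hχ, ← classInner_comp π h.surj b c]
  rw [Core.classInner_def, Core.classInner_def]
  congr 1
  refine Finset.sum_congr rfl fun x _ => ?_
  match hx : π x with
  | DihedralGroup.sr j => rw [hbs, zero_mul, zero_mul]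
  | DihedralGroup.r j =>
    by_cases hj : j = 0
    · rw [hj, ← DihedralGroup.one_def, hb1, zero_mul, zero_mul]
    · rw [hc x j hj hx]

theorem classInner_ind_comp_one (h : DHyp t n π) [Fintype (DihedralGroup n)]
    {b : DihedralGroup n → ℂ} (hb1 : b 1 = 0) (hbs : ∀ j, b (DihedralGroup.sr j) = 0) :
    classInner (indFun (Subgroup.centralizer ({t} : Set G)) (fun x => b (π x))) 1 =
      classInner b 1 :=
  classInner_ind_comp_left h hb1 hbs
    (Core.isCharacter_isClassFunction (Core.isCharacter_one)) (fun _ _ _ _ => rfl)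

end Main

section Values

variable {G : Type u} [Group G] {t : G} {n : ℕ} [NeZero n]
  {π : (Subgroup.centralizer ({t} : Set G)) →* DihedralGroup n}

/-- The 2-part of an element of `C(t)`. -/
theorem exists_two_part (h : DHyp t n π) (x : Subgroup.centralizer ({t} : Set G)) (j : ZMod n)
    (hx : π x = r j) :
    ∃ a u : Subgroup.centralizer ({t} : Set G), x = a * u ∧ π a = r j ∧ π u = 1 ∧ a ^ n = 1 ∧
      Commute a u := by
  obtain ⟨m, hm, hn⟩ := h.pow
  have hcop0 : ∀ K : ℕ, Odd K → Nat.Coprime n K := by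
    intro K hK
    rw [hn]
    exact Nat.Coprime.pow_left _ (Nat.coprime_two_left.2 hK)
  have hcop : Nat.Coprime n (Nat.card π.ker) := hcop0 _ h.odd_ker
  obtain ⟨k, hk1, hk2⟩ := Nat.chineseRemainder hcop 1 0
  have hxn : π (x ^ n) = 1 := by
    rw [map_pow, hx, r_pow, ZMod.natCast_self, mul_zero, DihedralGroup.one_def]
  have h1 : (x ^ n) ^ Nat.card π.ker = 1 :=
    congrArg Subtype.val (pow_card_eq_one' (x := (⟨x ^ n, hxn⟩ : π.ker)))
  have hpa : π (x ^ k) = r j := by
    rw [map_pow, hx, r_pow]
    have h2 : ((k : ℕ) : ZMod n) = 1 := by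
      have := (ZMod.natCast_eq_natCast_iff k 1 n).2 hk1
      rwa [Nat.cast_one] at this
    rw [h2, mul_one]
  refine ⟨x ^ k, (x ^ k)⁻¹ * x, by group, hpa, ?_, ?_, ?_⟩
  · rw [map_mul, map_inv, hpa, hx, inv_mul_cancel]
  · obtain ⟨c, hc⟩ := (Nat.modEq_zero_iff_dvd).1 hk2
    rw [hc, ← pow_mul]
    have : Nat.card π.ker * c * n = n * Nat.card π.ker * c := by ring
    rw [this, pow_mul, pow_mul, h1, one_pow]
  · have h3 : Commute (x ^ k) x := (Commute.refl x).pow_left k
    exact (Commute.refl (x ^ k)).inv_right.mul_right h3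

/-- A character of the principal 2-block has the same value at an element of `C(t)` mapping to a nontrivial rotation
and at its 2-part. -/
theorem irr_eq_two_part [Finite G] (h : DHyp t n π) (M : Ideal AlgInt) (hM : IsPModular 2 M)
    (χ : IrrCharacter G) (hχ : χ ∈ principalBlock M G)
    (a u : Subgroup.centralizer ({t} : Set G)) {j : ZMod n} (hj : j ≠ 0) (ha : π a = r j)
    (han : a ^ n = 1) (hu : π u = 1) (hau : Commute a u) :
    (χ : G → ℂ) ((a : G) * (u : G)) = (χ : G → ℂ) a := by
  have : Fact (Nat.Prime 2) := ⟨Nat.prime_two⟩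
  have hta : t ∈ Subgroup.zpowers (a : G) := mem_zpowers_of_rot h hj ha
  have hle : Subgroup.centralizer ({(a : G)} : Set G) ≤ Subgroup.centralizer ({t} : Set G) := by
    intro z hz
    rw [Subgroup.mem_centralizer_singleton_iff] at hz ⊢
    obtain ⟨k, hk⟩ := Subgroup.mem_zpowers_iff.1 hta
    have hz' : Commute z (a : G) := hz
    rw [← hk]
    exact (hz'.zpow_right k).eq
  set N : Subgroup (Subgroup.centralizer ({(a : G)} : Set G)) :=
    (π.comp (Subgroup.inclusion hle)).ker with hN
  have hNodd : (Nat.card N).Coprime 2 := by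
    rw [Nat.coprime_two_right]
    refine Odd.of_dvd_nat h.odd_ker ?_
    have hinj : Function.Injective
        (((Subgroup.inclusion hle).comp N.subtype).codRestrict π.ker (fun x => x.2)) := by
      intro x y hxy
      have h1 : Subgroup.inclusion hle x.1 = Subgroup.inclusion hle y.1 :=
        congrArg Subtype.val hxy
      exact Subtype.ext (Subgroup.inclusion_injective hle h1)
    exact Subgroup.card_dvd_of_injective _ hinj
  have hNle : N ≤ pPrimeCore 2 _ :=
    Cfsg.Agent.Lib.Cores.le_pPrimeCore inferInstance hNodd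
  have huC : (u : G) ∈ Subgroup.centralizer ({(a : G)} : Set G) := by
    rw [Subgroup.mem_centralizer_singleton_iff]
    have := congrArg Subtype.val hau.eq
    exact this.symm
  have hv : (u : G) ∈ centralizerPPrimeCore 2 (a : G) := by
    refine ⟨⟨u, huC⟩, hNle ?_, rfl⟩
    rw [hN, MonoidHom.mem_ker, MonoidHom.comp_apply]
    exact hu
  obtain ⟨m, hm, hn⟩ := h.pow
  refine Cfsg.Agent.S0942.result 2 M hM (a : G) ?_ (u : G) hv χ hχ
  have h1 : (a : G) ^ 2 ^ m = 1 := by
    have := congrArg Subtype.val han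
    rw [hn] at this
    exact this
  obtain ⟨l, -, hl⟩ := (Nat.dvd_prime_pow Nat.prime_two).1 (orderOf_dvd_of_pow_eq_one h1)
  exact ⟨l, hl⟩

/-- A character of the principal 2-block is constant on the fibres of `π` over the nontrivial rotations. -/
theorem irr_eq_of_rot [Finite G] (h : DHyp t n π) (M : Ideal AlgInt) (hM : IsPModular 2 M)
    (χ : IrrCharacter G) (hχ : χ ∈ principalBlock M G)
    (x y : Subgroup.centralizer ({t} : Set G)) {j : ZMod n} (hj : j ≠ 0) (hx : π x = r j)
    (hy : π y = r j) : (χ : G → ℂ) x = (χ : G → ℂ) y := by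
  obtain ⟨a, u, hxa, hpa, hpu, han, hau⟩ := exists_two_part h x j hx
  obtain ⟨b, v, hyb, hpb, hpv, hbn, hbv⟩ := exists_two_part h y j hy
  obtain ⟨m, hm, hn⟩ := h.pow
  have h1 : (χ : G → ℂ) x = (χ : G → ℂ) a := by
    have := irr_eq_two_part h M hM χ hχ a u hj hpa han hpu hau
    rw [← this, hxa]; rfl
  have h2 : (χ : G → ℂ) y = (χ : G → ℂ) b := by
    have := irr_eq_two_part h M hM χ hχ b v hj hpb hbn hpv hbv
    rw [← this, hyb]; rfl
  have h3 : IsConj a b :=
    isConj_of_ker_odd π h.odd_ker a b m (by rw [← hn]; exact han) (by rw [← hn]; exact hbn)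
      (hpa.trans hpb.symm)
  obtain ⟨c, hc⟩ := isConj_iff.1 h3
  have h4 : (χ : G → ℂ) b = (χ : G → ℂ) a := by
    rw [← hc]
    exact Core.isIrr_isClassFunction χ.2 (a : G) (c : G)
  rw [h1, h2, h4]

theorem signedB0_eq_of_rot [Finite G] (h : DHyp t n π) (M : Ideal AlgInt) (hM : IsPModular 2 M)
    (X : G → ℂ) (hX : SignedB0 M X)
    (x y : Subgroup.centralizer ({t} : Set G)) {j : ZMod n} (hj : j ≠ 0) (hx : π x = r j)
    (hy : π y = r j) : X x = X y := by
  obtain ⟨χ, hχ, rfl | rfl⟩ := hX
  · exact irr_eq_of_rot h M hM χ hχ x y hj hx hy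
  · rw [Pi.neg_apply, Pi.neg_apply, irr_eq_of_rot h M hM χ hχ x y hj hx hy]

/-- On the preimage of the nontrivial rotations a character of the principal block is an even function of the
rotation. -/
theorem exists_values [Finite G] (h : DHyp t n π) (M : Ideal AlgInt) (hM : IsPModular 2 M)
    (X : G → ℂ) (hX : SignedB0 M X) :
    ∃ F : ZMod n → ℂ, (∀ j, F (-j) = F j) ∧
      ∀ (x : Subgroup.centralizer ({t} : Set G)) (j : ZMod n), j ≠ 0 → π x = r j →
        X x = F j := by
  choose s hs using fun j : ZMod n => h.surj (r j)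
  refine ⟨fun j => if j = 0 then 0 else X (s j), ?_, ?_⟩
  · intro j
    by_cases hj : j = 0
    · simp [hj]
    · have hj' : -j ≠ 0 := neg_ne_zero.2 hj
      simp only [if_neg hj, if_neg hj']
      obtain ⟨w, hw⟩ := h.surj (sr 0)
      have h1 : π (w * s j * w⁻¹) = r (-j) := by
        rw [map_mul, map_mul, map_inv, hw, hs, inv_sr, sr_mul_r, sr_mul_sr]
        congr 1
        ring
      have h2 := signedB0_eq_of_rot h M hM X hX _ _ hj' (hs (-j)) h1
      rw [h2]
      exact SignedIrr.isClassFunction hX.signedIrr (s j : G) (w : G)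
  · intro x j hj hx
    simp only [if_neg hj]
    exact signedB0_eq_of_rot h M hM X hX _ _ hj hx (hs j)

/-- The order of `C(t)`. -/
theorem card_centralizer [Finite G] (h : DHyp t n π) :
    Nat.card (Subgroup.centralizer ({t} : Set G)) = Nat.card π.ker * (2 * n) := by
  rw [← Subgroup.card_mul_index π.ker, Subgroup.index_ker,
    MonoidHom.range_eq_top_of_surjective _ h.surj, Subgroup.card_top, DihedralGroup.nat_card]

/-- The fibres of `π`. -/
theorem card_fibre [Fintype (Subgroup.centralizer ({t} : Set G))] (h : DHyp t n π)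
    (d : DihedralGroup n) [DecidablePred fun x : Subgroup.centralizer ({t} : Set G) => π x = d] :
    (Finset.univ.filter (fun x : Subgroup.centralizer ({t} : Set G) => π x = d)).card =
      Nat.card π.ker := by
  obtain ⟨c, hc⟩ := h.surj d
  rw [← Fintype.card_coe, ← Nat.card_eq_fintype_card]
  refine Nat.card_congr ?_
  refine
    { toFun := fun x => ⟨c⁻¹ * x.1, ?_⟩
      invFun := fun x => ⟨c * x.1, ?_⟩
      left_inv := ?_
      right_inv := ?_ }
  · have hx := (Finset.mem_filter.1 x.2).2
    rw [MonoidHom.mem_ker, map_mul, map_inv, hc, hx, inv_mul_cancel]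
  · have hx := x.2
    rw [MonoidHom.mem_ker] at hx
    rw [Finset.mem_filter]
    exact ⟨Finset.mem_univ _, by rw [map_mul, hc, hx, mul_one]⟩
  · intro x; ext; simp
  · intro x; ext; simp

/-- Pairing of the induced function of `bth k ∘ π` with a class function which is a function `F j` on the preimages of the
rotations. -/
theorem classInner_ind [Fintype G] (h : DHyp t n π) (b : DihedralGroup n → ℂ) (hb1 : b 1 = 0)
    (hbs : ∀ j, b (sr j) = 0) (X : G → ℂ) (hX : IsClassFunction G X) (F : ZMod n → ℂ)
    (hF : ∀ (x : Subgroup.centralizer ({t} : Set G)) (j : ZMod n), j ≠ 0 → π x = r j →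
      X x = F j) :
    classInner (indFun (Subgroup.centralizer ({t} : Set G)) (fun x => b (π x))) X =
      (2 * (n : ℂ))⁻¹ * ∑ j : ZMod n, b (r j) * conj (F j) := by
  classical
  let _ : Fintype (Subgroup.centralizer ({t} : Set G)) := Fintype.ofFinite _
  rw [Cfsg.Agent.S0146.result _ _ _ hX, Core.classInner_def, card_centralizer h]
  have h1 : ∑ x : Subgroup.centralizer ({t} : Set G), b (π x) * conj (X x) =
      ∑ d : DihedralGroup n, ∑ x ∈ Finset.univ.filter
        (fun x : Subgroup.centralizer ({t} : Set G) => π x = d), b (π x) * conj (X x) :=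
    (Finset.sum_fiberwise_of_maps_to (fun _ _ => Finset.mem_univ _) _).symm
  have h2 : ∀ j : ZMod n, ∑ x ∈ Finset.univ.filter
        (fun x : Subgroup.centralizer ({t} : Set G) => π x = r j), b (π x) * conj (X x) =
      (Nat.card π.ker : ℂ) * (b (r j) * conj (F j)) := by
    intro j
    by_cases hj : j = 0
    · subst hj
      rw [← DihedralGroup.one_def, hb1, zero_mul, mul_zero]
      apply Finset.sum_eq_zero
      intro x hx
      rw [(Finset.mem_filter.1 hx).2, hb1, zero_mul]
    · rw [Finset.sum_congr rfl (g := fun _ => b (r j) * conj (F j))]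
      · rw [Finset.sum_const, nsmul_eq_mul, card_fibre h]
      · intro x hx
        have hx2 := (Finset.mem_filter.1 hx).2
        rw [hx2, hF x j hj hx2]
  have h3 : ∀ j : ZMod n, ∑ x ∈ Finset.univ.filter
        (fun x : Subgroup.centralizer ({t} : Set G) => π x = sr j), b (π x) * conj (X x) = 0 := by
    intro j
    apply Finset.sum_eq_zero
    intro x hx
    rw [(Finset.mem_filter.1 hx).2, hbs, zero_mul]
  have h4 : ∀ f : DihedralGroup n → ℂ, ∑ d : DihedralGroup n, f d =
      ∑ j : ZMod n, f (r j) + ∑ j : ZMod n, f (sr j) := by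
    intro f
    have e1 : ∑ d : DihedralGroup n, f d = ∑ s : ZMod n ⊕ ZMod n, f (Sum.elim r sr s) := by
      symm
      refine Fintype.sum_bijective (Sum.elim r sr) ⟨?_, ?_⟩ _ _ (fun _ => rfl)
      · rintro (a | a) (b | b) hab
        · simpa using hab
        · simp at hab
        · simp at hab
        · simpa using hab
      · rintro (a | a)
        · exact ⟨Sum.inl a, rfl⟩
        · exact ⟨Sum.inr a, rfl⟩
    rw [e1, Fintype.sum_sum_type]
    rfl
  show (_ : ℂ)⁻¹ * ∑ x : Subgroup.centralizer ({t} : Set G), b (π x) * conj (X x) = _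
  rw [h1, h4, Finset.sum_congr rfl (fun j _ => h2 j), Finset.sum_congr rfl (fun j _ => h3 j),
    Finset.sum_const_zero, add_zero, ← Finset.mul_sum]
  have hk : (Nat.card π.ker : ℂ) ≠ 0 := by
    have : Nat.card π.ker ≠ 0 := by
      intro h0
      have := h.odd_ker
      rw [h0] at this
      exact absurd this (by decide)
    exact_mod_cast this
  push_cast
  rw [mul_inv, mul_assoc, mul_left_comm, ← mul_assoc (Nat.card π.ker : ℂ)⁻¹, inv_mul_cancel₀ hk,
    one_mul]

/-- **Values**: a signed character of the principal block is determined on the preimage of the nontrivial rotations by its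
inner products with the induced functions of the `bth k`. -/
theorem values_of_inner [Fintype G] (h : DHyp t n π) (M : Ideal AlgInt) (hM : IsPModular 2 M)
    (X : G → ℂ) (hX : SignedB0 M X) (cand : ZMod n → ℂ) (hc : ∀ j, cand (-j) = cand j)
    (hin : ∀ k : ZMod n, k ≠ 0 →
      classInner (indFun (Subgroup.centralizer ({t} : Set G)) (fun x => bth k (π x))) X =
        (2 * (n : ℂ))⁻¹ * ∑ j : ZMod n, bth k (r j) * conj (cand j))
    (x : Subgroup.centralizer ({t} : Set G)) (j : ZMod n) (hj : j ≠ 0) (hx : π x = r j) :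
    X x = cand j := by
  obtain ⟨F, hFe, hF⟩ := exists_values h M hM X hX
  have h1 : ∀ k : ZMod n, k ≠ 0 →
      ∑ j : ZMod n, bth k (r j) * (conj (F j) - conj (cand j)) = 0 := by
    intro k hk
    have h2 := hin k hk
    rw [classInner_ind h (bth k) (bth_one k) (bth_sr k) X
      (SignedIrr.isClassFunction hX.signedIrr) F hF] at h2
    have h3 : (2 * (n : ℂ))⁻¹ ≠ 0 := inv_ne_zero (mul_ne_zero two_ne_zero n_ne_zero)
    have h4 := mul_left_cancel₀ h3 h2
    rw [← sub_eq_zero, ← Finset.sum_sub_distrib] at h4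
    rw [← h4]
    exact Finset.sum_congr rfl fun j _ => by ring
  have h2 := eq_zero_of_sum_bth (fun j => conj (F j) - conj (cand j))
    (fun j => by simp only [hFe, hc]) h1 j hj
  have h3 : F j = cand j := by
    have := sub_eq_zero.1 h2
    exact (starRingEnd ℂ).injective this
  rw [hF x j hj hx, h3]

/-- values identically `1` -/
theorem values_one [Fintype G] (h : DHyp t n π) (M : Ideal AlgInt) (hM : IsPModular 2 M)
    (X : G → ℂ) (hX : SignedB0 M X)
    (hin : ∀ k : ZMod n, k ≠ 0 →
      classInner (indFun (Subgroup.centralizer ({t} : Set G)) (fun x => bth k (π x))) X = 1)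
    (x : Subgroup.centralizer ({t} : Set G)) (j : ZMod n) (hj : j ≠ 0) (hx : π x = r j) :
    X x = 1 :=
  values_of_inner h M hM X hX (fun _ => 1) (fun _ => rfl)
    (fun k hk => by rw [hin k hk, sum_bth_one k hk]) x j hj hx

/-- values `mu` -/
theorem values_mu [Fintype G] (h : DHyp t n π) (M : Ideal AlgInt) (hM : IsPModular 2 M)
    (X : G → ℂ) (hX : SignedB0 M X)
    (hin : ∀ k : ZMod n, k ≠ 0 →
      classInner (indFun (Subgroup.centralizer ({t} : Set G)) (fun x => bth k (π x))) X =
        if k = ((n / 2 : ℕ) : ZMod n) then -1 else 0)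
    (x : Subgroup.centralizer ({t} : Set G)) (j : ZMod n) (hj : j ≠ 0) (hx : π x = r j) :
    X x = mu (r j) :=
  values_of_inner h M hM X hX (fun j => mu (r j)) (mu_neg (two_dvd h))
    (fun k hk => by rw [hin k hk, sum_bth_mu (two_dvd h) k]) x j hj hx

/-- values `theta i` -/
theorem values_theta [Fintype G] (h : DHyp t n π) (M : Ideal AlgInt) (hM : IsPModular 2 M)
    (X : G → ℂ) (hX : SignedB0 M X) (i : ZMod n) (hi : i ≠ 0)
    (hin : ∀ k : ZMod n, k ≠ 0 →
      classInner (indFun (Subgroup.centralizer ({t} : Set G)) (fun x => bth k (π x))) X =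
        -(if k = i then 1 else 0) - (if k = -i then 1 else 0))
    (x : Subgroup.centralizer ({t} : Set G)) (j : ZMod n) (hj : j ≠ 0) (hx : π x = r j) :
    X x = theta i (r j) :=
  values_of_inner h M hM X hX (fun j => theta i (r j))
    (fun j => by
      simp only [theta_r, mul_neg, neg_neg]
      ring)
    (fun k hk => by rw [hin k hk, sum_bth_theta i hi k]) x j hj hx

end Values

end Cfsg.Agent.H602.Dih
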