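import Mathlib
import Cfsg.Agent.H602.Dih.Basic

/-!
# Groups with a dihedral Sylow 2-subgroup, arbitrary fusion: characters of the principal 2-block

`dih_characters`: the Bender–Glauberman characters without a hypothesis on the fusion.
-/

set_option autoImplicit false
set_option linter.unusedSectionVars false

namespace Cfsg.Agent.H602.Dih

open DihedralGroup Cfsg Cfsg.Agent.Characters Cfsg.Agent.Classification.BGDefs
open Cfsg.Agent.Classification.BGOrder Cfsg.Agent.Classification.BGFourier
open Cfsg.Agent.Classification.BGBasic (half_ne_zero half_add_half eq_zero_or_half t_mem tt tt_comm)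
open Cfsg.Agent.Classification.BGValues (SignedB0)
open Cfsg.Agent.Classification.BGSplit Cfsg.Agent.Classification.BGBlockB0
open Cfsg.Agent.Classification
open scoped ComplexConjugate

universe u

variable {G : Type u} [Group G] [Fintype G] {t : G} {n : ℕ} [NeZero n]
  {π : (Subgroup.centralizer ({t} : Set G)) →* DihedralGroup n}

theorem isPGroup_dihedral {n m : ℕ} [NeZero n] (hn : n = 2 ^ m) : IsPGroup 2 (DihedralGroup n) := by
  have : Finite (DihedralGroup n) := Finite.of_fintype _
  rw [IsPGroup.iff_card]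
  exact ⟨m + 1, by rw [DihedralGroup.nat_card, hn, pow_succ, mul_comm]⟩

theorem mem_zpowers_of_supp (h : DHyp t n π) {b : DihedralGroup n → ℂ} (hb1 : b 1 = 0)
    (hbs : ∀ j, b (sr j) = 0) (q : DihedralGroup n) (hq : b q ≠ 0) :
    r ((n / 2 : ℕ) : ZMod n) ∈ Subgroup.zpowers q := by
  obtain ⟨x, rfl⟩ := h.surj q
  exact (Sec.mem_zpowers_iff_map h.sHyp).1 (mem_zpowers_of_ne_zero h b hb1 hbs x hq)

/-- The constituents of the induced functions are in the principal 2-block. -/
theorem inner_eq_zero_of_notMem (h : DHyp t n π) {M : Ideal AlgInt} (hM : IsPModular 2 M)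
    {b : DihedralGroup n → ℂ} (hb : IsClassFunction _ b) (hb1 : b 1 = 0)
    (hbs : ∀ j, b (sr j) = 0) {χ : IrrCharacter G} (hχ : χ ∉ principalBlock M G) :
    classInner (indFun (Subgroup.centralizer ({t} : Set G)) (fun x => b (π x))) (χ : G → ℂ) = 0 := by
  obtain ⟨m, -, hm⟩ := h.pow
  have hP : IsPGroup 2 (DihedralGroup n) := isPGroup_dihedral hm
  exact Sec.classInner_ind_eq_zero hM h.sHyp (P := ⊤) inferInstance (hP.to_subgroup _) le_top
    (fun q _ _ => hP.to_subgroup _) hb (mem_zpowers_of_supp h hb1 hbs) hχ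

theorem inB_of_inner_ne_zero (h : DHyp t n π) {M : Ideal AlgInt} (hM : IsPModular 2 M)
    {b : DihedralGroup n → ℂ} (hb : IsClassFunction _ b) (hb1 : b 1 = 0)
    (hbs : ∀ j, b (sr j) = 0) {X : G → ℂ} (hX : SignedIrr X)
    (hne : classInner (indFun (Subgroup.centralizer ({t} : Set G)) (fun x => b (π x))) X ≠ 0) :
    InB (principalBlock M G) X := by
  by_contra hnot
  apply hne
  rcases hX with hX | hX
  · exact inner_eq_zero_of_notMem h hM hb hb1 hbs (χ := ⟨X, hX⟩)
      fun h1 => hnot ⟨⟨X, hX⟩, h1, Or.inl rfl⟩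
  · have h2 := inner_eq_zero_of_notMem h hM hb hb1 hbs (χ := ⟨-X, hX⟩)
      fun h1 => hnot ⟨⟨-X, hX⟩, h1, Or.inr (neg_neg X).symm⟩
    rw [show ((⟨-X, hX⟩ : IrrCharacter G) : G → ℂ) = -X from rfl, Core.classInner_neg_right,
      neg_eq_zero] at h2
    exact h2

theorem isClassFunction_bth (i : ZMod n) : IsClassFunction (DihedralGroup n) (bth i) :=
  BGIsometry.isClassFunction_of_generalized (BGIsometry.isGeneralized_bth i)

theorem isClassFunction_bmu (h2 : 2 ∣ n) :
    IsClassFunction (DihedralGroup n) (bmu : DihedralGroup n → ℂ) :=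
  BGIsometry.isClassFunction_of_generalized (BGIsometry.isGeneralized_bmu h2)

/-- The decomposition of the induced functions, and the facts which hold for any such decomposition. -/
structure Chars (M : Ideal AlgInt) (t : G) (n : ℕ) [NeZero n]
    (π : (Subgroup.centralizer ({t} : Set G)) →* DihedralGroup n)
    (X₁ X₂ X₃ : G → ℂ) (T : ZMod n → G → ℂ) (f : ℤ) : Prop where
  s₁ : InB (principalBlock M G) X₁
  s₂ : InB (principalBlock M G) X₂
  s₃ : InB (principalBlock M G) X₃
  sT : ∀ i, i + i ≠ 0 → InB (principalBlock M G) (T i)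
  hT : ∀ i, i + i ≠ 0 →
        indFun (Subgroup.centralizer ({t} : Set G)) (fun x => bth i (π x)) = 1 + X₁ - T i
  hmu : indFun (Subgroup.centralizer ({t} : Set G)) (fun x => bmu (π x)) = 1 + X₁ - X₂ - X₃
  ho : Ortho n X₁ X₂ X₃ T
  hf : X₁ 1 = f
  hTf : ∀ i, i + i ≠ 0 → T i 1 = 1 + f
  hXf : X₂ 1 + X₃ 1 = 1 + f
  val : ∀ (x : Subgroup.centralizer ({t} : Set G)) (j : ZMod n), j ≠ 0 → π x = r j →
        X₁ x = 1 ∧ X₂ x = mu (r j) ∧ X₃ x = mu (r j) ∧ ∀ i, i + i ≠ 0 → T i x = theta i (r j)
  oddT : ∀ i, i + i ≠ 0 → ∀ g : G, Odd (orderOf g) → 1 + X₁ g - T i g = 0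
  oddX : ∀ g : G, Odd (orderOf g) → 1 + X₁ g - X₂ g - X₃ g = 0

/-- Final assembly: values and degrees from the decomposition. -/
theorem assemble (h : DHyp t n π) (hn : 4 ≤ n) {M : Ideal AlgInt} (hM : IsPModular 2 M)
    (X₁ X₂ X₃ : G → ℂ) (T : ZMod n → G → ℂ)
    (s₁ : SignedIrr X₁) (s₂ : SignedIrr X₂) (s₃ : SignedIrr X₃)
    (sT : ∀ i, i + i ≠ 0 → SignedIrr (T i))
    (hT : ∀ i, i + i ≠ 0 → indFun (Subgroup.centralizer ({t} : Set G)) (fun x => bth i (π x)) =
      1 + X₁ - T i)
    (hmu : indFun (Subgroup.centralizer ({t} : Set G)) (fun x => bmu (π x)) = 1 + X₁ - X₂ - X₃)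
    (ho : Ortho n X₁ X₂ X₃ T) :
    ∃ f : ℤ, Chars M t n π X₁ X₂ X₃ T f := by
  classical
  have h2 := two_dvd h
  have ht := h.orderOf_t
  have hone : SignedIrr (1 : G → ℂ) := signedIrr_one
  have hoddT : ∀ i, i + i ≠ 0 → ∀ g : G, Odd (orderOf g) → 1 + X₁ g - T i g = 0 := by
    intro i hi g hg
    have h1 := congrFun (hT i hi) g
    rw [BGIsometry.indFun_eq_zero_of_odd ht (supp_bth h i) hg] at h1
    simpa using h1.symm
  have hoddX : ∀ g : G, Odd (orderOf g) → 1 + X₁ g - X₂ g - X₃ g = 0 := by
    intro g hg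
    have h1 := congrFun hmu g
    rw [BGIsometry.indFun_eq_zero_of_odd ht (supp_bmu h) hg] at h1
    simpa using h1.symm
  -- an index `i` with `i + i ≠ 0`
  have hi0 : (1 : ZMod n) + 1 ≠ 0 := by
    intro h0
    have h1 : ((2 : ℕ) : ZMod n) = 0 := by rw [← h0]; norm_num
    rw [ZMod.natCast_eq_zero_iff] at h1
    have := Nat.le_of_dvd (by norm_num) h1
    omega
  -- the decomposition of all the functions `bth k`, `k ≠ 0`
  have hneg : ∀ i, i + i ≠ 0 → T (-i) = T i := by
    intro i hi
    have hi' : -i + -i ≠ 0 := by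
      intro h0
      apply hi
      rw [← neg_add, neg_eq_zero] at h0
      exact h0
    have h1 := hT (-i) hi'
    rw [BGFourier.bth_neg, hT i hi] at h1
    have h3 := sub_right_injective h1
    exact h3.symm
  have hhalf : ∀ k : ZMod n, k ≠ 0 → ¬ k + k ≠ 0 → k = ((n / 2 : ℕ) : ZMod n) := by
    intro k hk hkk
    rcases eq_zero_or_half (not_not.1 hkk) with h0 | h0
    · exact absurd h0 hk
    · exact h0
  have hdec : ∀ k : ZMod n, k ≠ 0 → ∀ X : G → ℂ,
      classInner (indFun (Subgroup.centralizer ({t} : Set G)) (fun x => bth k (π x))) X =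
        classInner 1 X + classInner X₁ X -
          if k + k ≠ 0 then classInner (T k) X else classInner X₂ X + classInner X₃ X := by
    intro k hk X
    by_cases hkk : k + k ≠ 0
    · rw [if_pos hkk, hT k hkk, Characters.Core.classInner_sub_left,
        Characters.Core.classInner_add_left]
    · rw [if_neg hkk, hhalf k hk hkk, BGFourier.bth_half h2, hmu,
        Characters.Core.classInner_sub_left, Characters.Core.classInner_sub_left,
        Characters.Core.classInner_add_left]
      ring
  have hhh : ¬ (((n / 2 : ℕ) : ZMod n) + ((n / 2 : ℕ) : ZMod n) ≠ 0) := by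
    rw [half_add_half h2]; simp
  have hhne := half_ne_zero h2
  -- membership in the principal block
  have hB1 : InB (principalBlock M G) X₁ := by
    refine inB_of_inner_ne_zero h hM (isClassFunction_bth 1) (bth_one 1) (bth_sr 1) s₁ ?_
    rw [hT 1 hi0, Core.classInner_sub_left, Core.classInner_add_left, inner_symm_zero ho.one₁,
      signed_self s₁, ho.T_x₁ 1 hi0]
    norm_num
  have hBT : ∀ i, i + i ≠ 0 → InB (principalBlock M G) (T i) := by
    intro i hi
    refine inB_of_inner_ne_zero h hM (isClassFunction_bth i) (bth_one i) (bth_sr i) (sT i hi) ?_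
    rw [hT i hi, Core.classInner_sub_left, Core.classInner_add_left,
      inner_symm_zero (ho.one_T i hi), signed_self (sT i hi), inner_symm_zero (ho.T_x₁ i hi)]
    norm_num
  have hB2 : InB (principalBlock M G) X₂ := by
    refine inB_of_inner_ne_zero h hM (isClassFunction_bmu h2) bmu_one bmu_sr s₂ ?_
    rw [hmu, Core.classInner_sub_left, Core.classInner_sub_left, Core.classInner_add_left,
      inner_symm_zero ho.one₂, signed_self s₂, ho.x₁₂, inner_symm_zero ho.x₂₃]
    norm_num
  have hB3 : InB (principalBlock M G) X₃ := by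
    refine inB_of_inner_ne_zero h hM (isClassFunction_bmu h2) bmu_one bmu_sr s₃ ?_
    rw [hmu, Core.classInner_sub_left, Core.classInner_sub_left, Core.classInner_add_left,
      inner_symm_zero ho.one₃, signed_self s₃, ho.x₁₃, ho.x₂₃]
    norm_num
  -- values
  have v₁ := values_one h M hM X₁ hB1 (by
    intro k hk
    rw [hdec k hk, inner_symm_zero ho.one₁, signed_self s₁]
    split_ifs with hkk
    · rw [ho.T_x₁ k hkk]; ring
    · rw [inner_symm_zero ho.x₁₂, inner_symm_zero ho.x₁₃]; ring)
  have v₂ := values_mu h M hM X₂ hB2 (by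
    intro k hk
    rw [hdec k hk, inner_symm_zero ho.one₂, ho.x₁₂]
    by_cases hkk : k + k ≠ 0
    · rw [if_pos hkk, ho.T_x₂ k hkk, if_neg]
      · ring
      · rintro rfl; exact hhh hkk
    · rw [if_neg hkk, if_pos (hhalf k hk hkk), signed_self s₂, inner_symm_zero ho.x₂₃]
      ring)
  have v₃ := values_mu h M hM X₃ hB3 (by
    intro k hk
    rw [hdec k hk, inner_symm_zero ho.one₃, ho.x₁₃]
    by_cases hkk : k + k ≠ 0
    · rw [if_pos hkk, ho.T_x₃ k hkk, if_neg]
      · ring
      · rintro rfl; exact hhh hkk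
    · rw [if_neg hkk, if_pos (hhalf k hk hkk), signed_self s₃, ho.x₂₃]
      ring)
  have vT : ∀ i, i + i ≠ 0 → ∀ (x : Subgroup.centralizer ({t} : Set G)) (j : ZMod n), j ≠ 0 →
      π x = r j → T i x = theta i (r j) := by
    intro i hi
    have hi1 : i ≠ 0 := by rintro rfl; exact hi (add_zero 0)
    refine values_theta h M hM (T i) (hBT i hi) i hi1 ?_
    intro k hk
    rw [hdec k hk, inner_symm_zero (ho.one_T i hi), inner_symm_zero (ho.T_x₁ i hi)]
    by_cases hkk : k + k ≠ 0
    · rw [if_pos hkk]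
      by_cases e1 : k = i
      · subst e1
        rw [if_pos rfl, if_neg, signed_self (sT k hkk)]
        · ring
        · intro e2
          apply hi
          nth_rewrite 1 [e2]
          exact neg_add_cancel k
      · by_cases e2 : k = -i
        · rw [if_neg e1, if_pos e2, e2, hneg i hi, signed_self (sT i hi)]
          ring
        · rw [if_neg e1, if_neg e2, ho.T_T k i hkk hi e1 e2]
          ring
    · rw [if_neg hkk, inner_symm_zero (ho.T_x₂ i hi), inner_symm_zero (ho.T_x₃ i hi), if_neg,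
        if_neg]
      · ring
      · rintro rfl
        apply hkk
        intro h0
        apply hi
        rw [← neg_add, neg_eq_zero] at h0
        exact h0
      · rintro rfl; exact hkk hi
  -- degrees
  obtain ⟨f, hf0, hf, -, -⟩ := signed_one X₁ s₁
  have hdT : ∀ i, i + i ≠ 0 → T i 1 = 1 + f := by
    intro i hi
    have h1 := hoddT i hi 1 (by simp)
    rw [← hf]
    linear_combination -h1
  have hdX : X₂ 1 + X₃ 1 = 1 + f := by
    have h1 := hoddX 1 (by simp)
    rw [← hf]
    linear_combination -h1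
  exact ⟨f, hB1, hB2, hB3, hBT, hT, hmu, ho, hf, hdT, hdX,
    fun x j hj hx => ⟨v₁ x j hj hx, v₂ x j hj hx, v₃ x j hj hx, fun i hi => vT i hi x j hj hx⟩,
    hoddT, hoddX⟩

/-- **Bender–Glauberman characters**, arbitrary fusion. -/
theorem dih_characters (h : DHyp t n π) (hn : 4 ≤ n) {M : Ideal AlgInt} (hM : IsPModular 2 M) :
    ∃ (X₁ X₂ X₃ : G → ℂ) (T : ZMod n → G → ℂ) (f : ℤ), Chars M t n π X₁ X₂ X₃ T f := by
  classical
  let _ : Fintype (DihedralGroup n) := Fintype.ofFinite _
  have h2 := two_dvd h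
  have hcl : ∀ i : ZMod n, IsClassFunction (DihedralGroup n) (bth i) := isClassFunction_bth
  have hclmu : IsClassFunction (DihedralGroup n) bmu := isClassFunction_bmu h2
  have hne : ∀ i : ZMod n, i + i ≠ 0 → i ≠ 0 := fun i hi => BGIsometry.ne_zero_of_add hi
  obtain ⟨X₁, X₂, X₃, T, s₁, s₂, s₃, sT, hT, hmu, ho⟩ := split (G := G) hn
    (by obtain ⟨m, -, hm⟩ := h.pow; exact ⟨m, hm⟩)
    (fun i => indFun (Subgroup.centralizer ({t} : Set G)) (fun x => bth i (π x)))
    (indFun (Subgroup.centralizer ({t} : Set G)) (fun x => bmu (π x)))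
    (fun i _ => BGIsometry.isGeneralized_ind_comp (BGIsometry.isGeneralized_bth i))
    (BGIsometry.isGeneralized_ind_comp (BGIsometry.isGeneralized_bmu h2))
    (fun i => by simp only [BGFourier.bth_neg])
    (fun i hi => by
      rw [classInner_ind_comp h (hcl i) (hcl i) (bth_one i) (bth_sr i) (bth_one i)
        (bth_sr i), BGIsometry.classInner_bth_self hi])
    (fun i j hi hj hij hij' => by
      rw [classInner_ind_comp h (hcl i) (hcl j) (bth_one i) (bth_sr i) (bth_one j)
        (bth_sr j), BGIsometry.classInner_bth_ne (hne i hi) (hne j hj) hij hij'])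
    (fun i hi => by
      rw [classInner_ind_comp h (hcl i) hclmu (bth_one i) (bth_sr i) bmu_one
        bmu_sr, BGIsometry.classInner_bth_bmu h2 hi])
    (by
      rw [classInner_ind_comp h hclmu hclmu bmu_one bmu_sr bmu_one
        bmu_sr, BGIsometry.classInner_bmu_self h2])
    (fun i hi => by
      rw [classInner_ind_comp_one h (bth_one i) (bth_sr i),
        BGIsometry.classInner_bth_one (hne i hi)])
    (by
      rw [classInner_ind_comp_one h bmu_one bmu_sr,
        BGIsometry.classInner_bmu_one h2])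
    (fun i _ => BGIsometry.indFun_one h.orderOf_t (supp_bth h i))
    (BGIsometry.indFun_one h.orderOf_t (supp_bmu h))
  obtain ⟨f, hf⟩ := assemble h hn hM X₁ X₂ X₃ T s₁ s₂ s₃ sT hT hmu ho
  exact ⟨X₁, X₂, X₃, T, f, hf⟩

section

variable {M : Ideal AlgInt} {X₁ X₂ X₃ : G → ℂ} {T : ZMod n → G → ℂ} {f : ℤ}

/-- A character of the principal block orthogonal to all the characters of the decomposition vanishes at the elements of
`C(t)` mapping to nontrivial rotations. -/
theorem Chars.vanish (hC : Chars M t n π X₁ X₂ X₃ T f) (h : DHyp t n π) (hM : IsPModular 2 M)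
    {χ : IrrCharacter G} (hχ : χ ∈ principalBlock M G)
    (h0 : classInner 1 (χ : G → ℂ) = 0) (h1 : classInner X₁ (χ : G → ℂ) = 0)
    (h2 : classInner X₂ (χ : G → ℂ) = 0) (h3 : classInner X₃ (χ : G → ℂ) = 0)
    (hT : ∀ i, i + i ≠ 0 → classInner (T i) (χ : G → ℂ) = 0)
    (x : Subgroup.centralizer ({t} : Set G)) (j : ZMod n) (hj : j ≠ 0) (hx : π x = r j) :
    (χ : G → ℂ) x = 0 := by
  refine values_of_inner h M hM (χ : G → ℂ) ⟨χ, hχ, Or.inl rfl⟩ (fun _ => 0) (fun _ => rfl) ?_ x j
    hj hx
  intro k hk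
  rw [map_zero]
  simp only [mul_zero, Finset.sum_const_zero]
  by_cases hkk : k + k ≠ 0
  · rw [hC.hT k hkk, Characters.Core.classInner_sub_left,
        Characters.Core.classInner_add_left, h0, h1, hT k hkk]
    ring
  · have hk2 : k = ((n / 2 : ℕ) : ZMod n) := by
      rcases eq_zero_or_half (not_not.1 hkk) with h0 | h0
      · exact absurd h0 hk
      · exact h0
    rw [hk2, BGFourier.bth_half (two_dvd h), hC.hmu,
        Characters.Core.classInner_sub_left, Characters.Core.classInner_sub_left,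
        Characters.Core.classInner_add_left, h0, h1, h2, h3]
    ring

end

end Cfsg.Agent.H602.Dih
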