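import Mathlib
import Cfsg.Agent.H602.Dih.Main
import Cfsg.Agent.Classification.BGStructure
import Cfsg.Agent.S0947
import Cfsg.Agent.S0942
import Cfsg.Agent.S0944
import Cfsg.Agent.S0928
import Cfsg.Agent.S0914
import Cfsg.Agent.S0135

/-!
# Groups with a dihedral Sylow 2-subgroup, arbitrary fusion: the principal 2-block has no other characters
-/

set_option autoImplicit false
set_option linter.unusedSectionVars false

namespace Cfsg.Agent.H602.Dih

open DihedralGroup Cfsg Cfsg.Agent.Characters Cfsg.Agent.Classification.BGDefs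
open Cfsg.Agent.Classification.BGOrder Cfsg.Agent.Classification.BGFourier
open Cfsg.Agent.Classification.BGBasic (half_ne_zero half_add_half eq_zero_or_half t_mem tt tt_comm)
open Cfsg.Agent.Classification.BGValues (SignedB0)
open Cfsg.Agent.Classification.BGSplit Cfsg.Agent.Classification.BGBlockB0
open Cfsg.Agent.Classification.TransferSign Cfsg.Agent.Classification.DihedralCentral
open Cfsg.Agent.Classification Cfsg.Agent.Blocks
open scoped ComplexConjugate

universe u

section Structure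

variable {G : Type u} [Group G] [Finite G]

/-- The centralizer of an involution has a normal 2-complement. -/
theorem oddClosed_centralizer {S : Sylow 2 G} {n : ℕ} (e : (S : Subgroup G) ≃* DihedralGroup n)
    (y : G) (hy : orderOf y = 2) : OddClosed (Subgroup.centralizer ({y} : Set G)) := by
  have hsub : SubDihedral (Subgroup.centralizer ({y} : Set G)) :=
    subDihedral_of_injective (Subgroup.subtype _) (Subgroup.subtype_injective _)
      (subDihedral_of_sylow S n e)
  refine oddClosed_of_subDihedral _ le_rfl hsub (tt y) ?_ ?_ (fun x => ((tt_comm x).eq).symm)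
  · intro h
    have : y = 1 := congrArg Subtype.val h
    rw [this, orderOf_one] at hy
    omega
  · apply Subtype.ext
    show y * y = 1
    have := pow_orderOf_eq_one y
    rwa [hy, sq] at this

theorem exists_index_pPrimeCore {S : Sylow 2 G} {n : ℕ} (e : (S : Subgroup G) ≃* DihedralGroup n)
    (y : G) (hy : orderOf y = 2) :
    ∃ k : ℕ, (pPrimeCore 2 (Subgroup.centralizer ({y} : Set G))).index = 2 ^ k := by
  obtain ⟨N, hNn, hNodd, k, hk⟩ := exists_of_oddClosed (oddClosed_centralizer e y hy)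
  have h1 : N ≤ pPrimeCore 2 (Subgroup.centralizer ({y} : Set G)) :=
    Lib.Cores.le_pPrimeCore hNn (Nat.coprime_two_right.2 hNodd)
  have h2 := Subgroup.index_dvd_of_le h1
  rw [hk] at h2
  obtain ⟨l, -, hl⟩ := (Nat.dvd_prime_pow Nat.prime_two).1 h2
  exact ⟨l, hl⟩

/-- Existence of the homomorphism onto the dihedral group. -/
theorem exists_dhyp {n : ℕ} [NeZero n] (S : Sylow 2 G) (m : ℕ) (hm : 1 ≤ m) (hn : n = 2 ^ m)
    (e : (S : Subgroup G) ≃* DihedralGroup n) (t : G)
    (htdef : t = ((e.symm (r ((n / 2 : ℕ) : ZMod n)) : (S : Subgroup G)) : G)) :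
    (∀ x : (S : Subgroup G), (x : G) ∈ Subgroup.centralizer ({t} : Set G)) ∧
    ∃ π : (Subgroup.centralizer ({t} : Set G)) →* DihedralGroup n, DHyp t n π ∧
      ∀ (x : (S : Subgroup G)) (hx : (x : G) ∈ Subgroup.centralizer ({t} : Set G)),
        π ⟨x, hx⟩ = e x := by
  have h2n : 2 ∣ n := by rw [hn]; exact dvd_pow_self 2 (by omega)
  set z : DihedralGroup n := r ((n / 2 : ℕ) : ZMod n) with hz
  have hz1 : z ≠ 1 := by
    rw [hz, DihedralGroup.one_def]
    intro h
    exact half_ne_zero h2n (r.inj h)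
  have hzz : z * z = 1 := by
    rw [hz, r_mul_r, half_add_half h2n, DihedralGroup.one_def]
  have hzc : ∀ x : DihedralGroup n, x * z = z * x := fun x => BGStructure.r_half_comm h2n x
  -- embedding of the dihedral group in `G`
  set φ0 : DihedralGroup n →* G := (S : Subgroup G).subtype.comp e.symm.toMonoidHom with hφ0
  have hφ0inj : Function.Injective φ0 :=
    (Subgroup.subtype_injective _).comp e.symm.injective
  have hφ0z : φ0 z = t := htdef.symm
  have ht : orderOf t = 2 := by
    rw [← hφ0z, orderOf_injective φ0 hφ0inj]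
    exact orderOf_eq_prime (by rw [sq, hzz]) hz1
  have hmem : ∀ x, φ0 x ∈ Subgroup.centralizer ({t} : Set G) := by
    intro x
    rw [Subgroup.mem_centralizer_singleton_iff, ← hφ0z, ← map_mul, ← map_mul, hzc]
  set φ : DihedralGroup n →* (Subgroup.centralizer ({t} : Set G)) := φ0.codRestrict _ hmem with hφ
  have hφinj : Function.Injective φ := fun a b hab => hφ0inj (by simpa [hφ] using congrArg Subtype.val hab)
  have hφz : φ z = tt t := Subtype.ext hφ0z
  have hφe : ∀ x : (S : Subgroup G), ((φ (e x) : Subgroup.centralizer ({t} : Set G)) : G) = x := by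
    intro x
    show ((e.symm (e x) : (S : Subgroup G)) : G) = x
    rw [MulEquiv.symm_apply_apply]
  -- the normal complement
  obtain ⟨N, hNn, hNodd, k, hk⟩ := exists_of_oddClosed (oddClosed_centralizer e t ht)
  -- the map to the quotient is bijective
  set ψ : DihedralGroup n →* (Subgroup.centralizer ({t} : Set G)) ⧸ N := (QuotientGroup.mk' N).comp φ
    with hψ
  have hψinj : Function.Injective ψ := by
    rw [injective_iff_map_eq_one]
    intro x hx
    have hxN : φ x ∈ N := (QuotientGroup.eq_one_iff _).1 hx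
    have h1 : Odd (orderOf x) := by
      rw [← orderOf_injective φ hφinj x]
      have h3 : orderOf (⟨φ x, hxN⟩ : N) ∣ Nat.card N := orderOf_dvd_natCard _
      rw [← Subgroup.orderOf_coe] at h3
      exact Odd.of_dvd_nat hNodd h3
    have h2 : orderOf x ∣ 2 ^ (m + 1) := by
      have h3 := orderOf_dvd_natCard x
      rw [DihedralGroup.nat_card] at h3
      rw [pow_succ, mul_comm]
      exact h3.trans (dvd_of_eq (by rw [hn]))
    obtain ⟨c, -, hc⟩ := (Nat.dvd_prime_pow Nat.prime_two).1 h2
    rw [hc] at h1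
    have hc0 : c = 0 := by
      by_contra hc0
      exact (Nat.not_odd_iff_even.2 (Nat.even_pow.2 ⟨even_two, hc0⟩)) h1
    rw [hc0, pow_zero, orderOf_eq_one_iff] at hc
    exact hc
  have hcard : Nat.card ((Subgroup.centralizer ({t} : Set G)) ⧸ N) ≤ Nat.card (DihedralGroup n) := by
    have h1 : Nat.card ((Subgroup.centralizer ({t} : Set G)) ⧸ N) = 2 ^ k := hk
    rw [h1, ← Nat.card_congr e.toEquiv]
    have h2 : 2 ^ k ∣ Nat.card G := by
      rw [← hk]
      exact (Subgroup.index_dvd_card N).trans (Subgroup.card_subgroup_dvd_card _)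
    rw [S.card_eq_multiplicity]
    exact Nat.pow_le_pow_right (by norm_num)
      ((Nat.prime_two.pow_dvd_iff_le_factorization Nat.card_pos.ne').1 h2)
  have hbij : Function.Bijective ψ := by
    have := Fintype.ofFinite ((Subgroup.centralizer ({t} : Set G)) ⧸ N)
    rw [Fintype.bijective_iff_injective_and_card]
    refine ⟨hψinj, le_antisymm ?_ ?_⟩
    · exact Fintype.card_le_of_injective _ hψinj
    · rw [← Nat.card_eq_fintype_card, ← Nat.card_eq_fintype_card]
      exact hcard
  set E := MulEquiv.ofBijective ψ hbij with hE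
  refine ⟨fun x => hφe x ▸ (φ (e x)).2, E.symm.toMonoidHom.comp (QuotientGroup.mk' N), ?_, ?_⟩
  · constructor
    · exact ht
    · exact ⟨m, hm, hn⟩
    · exact E.symm.surjective.comp (QuotientGroup.mk'_surjective N)
    · have hker : (E.symm.toMonoidHom.comp (QuotientGroup.mk' N)).ker = N := by
        ext x
        rw [MonoidHom.mem_ker, MonoidHom.comp_apply]
        show E.symm (QuotientGroup.mk' N x) = 1 ↔ _
        rw [EmbeddingLike.map_eq_one_iff]
        exact QuotientGroup.eq_one_iff x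
      rw [hker]
      exact hNodd
    · intro h
      show E.symm (QuotientGroup.mk' N ⟨t, h⟩) = z
      rw [MulEquiv.symm_apply_eq]
      show _ = QuotientGroup.mk' N (φ z)
      rw [hφz]
      rfl
  · intro x hx
    show E.symm (QuotientGroup.mk' N ⟨x, hx⟩) = e x
    rw [MulEquiv.symm_apply_eq]
    show _ = QuotientGroup.mk' N (φ (e x))
    congr 1
    exact Subtype.ext (hφe x).symm

/-- An element commuting with a reflection. -/
theorem eq_of_commute_sr {n : ℕ} [NeZero n] {d : DihedralGroup n} {j : ZMod n}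
    (hd : d * sr j = sr j * d) :
    d = r 0 ∨ d = r ((n / 2 : ℕ) : ZMod n) ∨ d = sr j ∨ d = sr (j + ((n / 2 : ℕ) : ZMod n)) := by
  cases d with
  | r i =>
    rw [r_mul_sr, sr_mul_r] at hd
    have h1 := sr.inj hd
    have h2 : i + i = 0 := by
      have h3 : j + i - (j - i) = 0 := by rw [h1, sub_self]
      rw [← h3]; ring
    rcases eq_zero_or_half h2 with h3 | h3
    · left; rw [h3]
    · right; left; rw [h3]
  | sr i =>
    rw [sr_mul_sr, sr_mul_sr] at hd
    have h1 := r.inj hd
    have h2 : (i - j) + (i - j) = 0 := by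
      have h3 : (i - j) - (j - i) = 0 := by rw [← h1, sub_self]
      rw [← h3]; ring
    rcases eq_zero_or_half h2 with h3 | h3
    · right; right; left; rw [sub_eq_zero.1 h3]
    · right; right; right; rw [← h3]; congr 1; ring

/-- An involution not conjugate to the central involution of the Sylow 2-subgroup has centralizer with 2-part at
most four. -/
theorem two_part_le {n : ℕ} [NeZero n] (S : Sylow 2 G)
    (e : (S : Subgroup G) ≃* DihedralGroup n) (t : G)
    (htdef : t = ((e.symm (r ((n / 2 : ℕ) : ZMod n)) : (S : Subgroup G)) : G))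
    (y : G) (hy : orderOf y = 2) (hty : ¬ IsConj t y) :
    2 ^ (Nat.card (Subgroup.centralizer ({y} : Set G))).factorization 2 ≤ 4 := by
  have : Fact (Nat.Prime 2) := ⟨Nat.prime_two⟩
  have hyy : y ^ 2 = 1 := by rw [← hy, pow_orderOf_eq_one]
  -- a Sylow 2-subgroup of the centralizer containing `y`
  have hp : IsPGroup 2 (Subgroup.zpowers (tt y)) := by
    rw [IsPGroup.iff_card]
    refine ⟨1, ?_⟩
    rw [Nat.card_zpowers, pow_one, ← hy]
    exact (Subgroup.orderOf_coe (tt y)).symm
  obtain ⟨V, hV⟩ := hp.exists_le_sylow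
  rw [← V.card_eq_multiplicity]
  have hyV : tt y ∈ (V : Subgroup (Subgroup.centralizer ({y} : Set G))) :=
    hV (Subgroup.mem_zpowers _)
  have hVG : IsPGroup 2 ((V : Subgroup (Subgroup.centralizer ({y} : Set G))).map
      (Subgroup.centralizer ({y} : Set G)).subtype) := V.2.map _
  obtain ⟨S', hS'⟩ := hVG.exists_le_sylow
  obtain ⟨g, hg⟩ := MulAction.exists_smul_eq G S' S
  -- conjugation by `g` maps `S'` to `S`
  have hmem : ∀ x : Subgroup.centralizer ({y} : Set G),
      x ∈ (V : Subgroup (Subgroup.centralizer ({y} : Set G))) → g * (x : G) * g⁻¹ ∈ (S : Subgroup G) := by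
    intro x hx
    have h1 : (x : G) ∈ (S' : Subgroup G) := hS' ⟨x, hx, rfl⟩
    rw [← hg]
    exact ⟨x, h1, rfl⟩
  set y' : (S : Subgroup G) := ⟨g * y * g⁻¹, hmem _ hyV⟩ with hy'
  have hy'2 : e y' * e y' = 1 := by
    rw [← map_mul, map_eq_one_iff e e.injective]
    apply Subtype.ext
    show g * y * g⁻¹ * (g * y * g⁻¹) = 1
    have : g * y * g⁻¹ * (g * y * g⁻¹) = g * y ^ 2 * g⁻¹ := by rw [sq]; group
    rw [this, hyy]; group
  have hy'1 : e y' ≠ 1 := by
    rw [Ne, map_eq_one_iff e e.injective]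
    intro h
    have h1 : g * y * g⁻¹ = 1 := congrArg Subtype.val h
    have h2 : y = 1 := by
      have : y = g⁻¹ * (g * y * g⁻¹) * g := by group
      rw [this, h1]; group
    rw [h2, orderOf_one] at hy
    omega
  obtain ⟨j, hj⟩ : ∃ j, e y' = sr j := by
    rcases hd : e y' with i | i
    · exfalso
      rw [hd, r_mul_r, DihedralGroup.one_def] at hy'2
      rcases eq_zero_or_half (r.inj hy'2) with h | h
      · rw [hd, h] at hy'1
        exact hy'1 DihedralGroup.one_def.symm
      · apply hty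
        rw [isConj_iff]
        refine ⟨g⁻¹, ?_⟩
        have h3 : y' = e.symm (r ((n / 2 : ℕ) : ZMod n)) := by
          rw [MulEquiv.eq_symm_apply, hd, h]
        rw [htdef, ← h3]
        show g⁻¹ * (g * y * g⁻¹) * g⁻¹⁻¹ = y
        group
    · exact ⟨i, rfl⟩
  -- the injection
  obtain ⟨VV, hVV⟩ : ∃ VV : Subgroup (Subgroup.centralizer ({y} : Set G)), VV = V.1 := ⟨_, rfl⟩
  have hmem' : ∀ x : VV, g * (x.1 : G) * g⁻¹ ∈ (S : Subgroup G) := fun x => hmem x.1 (hVV ▸ x.2)
  let F : VV → DihedralGroup n := fun x => e ⟨g * (x.1 : G) * g⁻¹, hmem' x⟩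
  have hFinj : Function.Injective F := by
    intro a b hab
    have h1 := e.injective hab
    have h2 : g * (a.1 : G) * g⁻¹ = g * (b.1 : G) * g⁻¹ := congrArg Subtype.val h1
    have h3 := mul_left_cancel (mul_right_cancel h2)
    exact Subtype.ext (Subtype.ext h3)
  have hFmem : ∀ x, F x ∈ ({r 0, r ((n / 2 : ℕ) : ZMod n), sr j,
      sr (j + ((n / 2 : ℕ) : ZMod n))} : Finset (DihedralGroup n)) := by
    intro x
    have h1 : F x * sr j = sr j * F x := by
      rw [← hj, ← map_mul, ← map_mul]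
      congr 1
      apply Subtype.ext
      show g * (x.1 : G) * g⁻¹ * (g * y * g⁻¹) = g * y * g⁻¹ * (g * (x.1 : G) * g⁻¹)
      have h2 : (x.1 : G) * y = y * (x.1 : G) :=
        Subgroup.mem_centralizer_singleton_iff.1 x.1.2
      calc g * (x.1 : G) * g⁻¹ * (g * y * g⁻¹)
          = g * ((x.1 : G) * y) * g⁻¹ := by group
        _ = _ := by rw [h2]; group
    simp only [Finset.mem_insert, Finset.mem_singleton]
    exact eq_of_commute_sr h1
  have hle : Nat.card VV ≤ ({r 0, r ((n / 2 : ℕ) : ZMod n), sr j,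
      sr (j + ((n / 2 : ℕ) : ZMod n))} : Finset (DihedralGroup n)).card := by
    have := Fintype.ofFinite VV
    rw [Nat.card_eq_fintype_card, ← Finset.card_univ]
    exact Finset.card_le_card_of_injOn F (fun x _ => hFmem x) (hFinj.injOn)
  rw [hVV] at hle
  exact hle.trans Finset.card_le_four

end Structure

section Vanish

variable {G : Type u} [Group G] [Fintype G] {t : G} {n : ℕ} [NeZero n]
  {π : (Subgroup.centralizer ({t} : Set G)) →* DihedralGroup n}
  {M : Ideal AlgInt} {X₁ X₂ X₃ : G → ℂ} {T : ZMod n → G → ℂ} {f : ℤ}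

/-- An irreducible character with value `± 1` at some involution does not vanish at any involution. -/
theorem one_le_norm (χ : IrrCharacter G) {t y : G} (ht : orderOf t = 2) (hy : orderOf y = 2)
    (h1 : (χ : G → ℂ) t = 1 ∨ (χ : G → ℂ) t = -1) : 1 ≤ ‖(χ : G → ℂ) y‖ ^ 2 := by
  obtain ⟨a, ha, hda⟩ := S0944.result χ t ht
  obtain ⟨b, hb, hdb⟩ := S0944.result χ y hy
  have ha1 : a = 1 ∨ a = -1 := by
    rcases h1 with h1 | h1
    · left
      rw [h1] at ha
      exact_mod_cast ha.symm
    · right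
      rw [h1] at ha
      exact_mod_cast ha.symm
  have hb0 : b ≠ 0 := by
    rintro rfl
    rw [sub_zero] at hdb
    rcases ha1 with rfl | rfl
    · have := dvd_sub hdb hda
      norm_num at this
    · have := dvd_sub hdb hda
      norm_num at this
  rw [hb]
  have h3 : (1 : ℤ) ≤ b ^ 2 := by
    have : 0 < b ^ 2 := by positivity
    omega
  have h4 : ‖((b : ℤ) : ℂ)‖ ^ 2 = ((b ^ 2 : ℤ) : ℝ) := by
    rw [Complex.norm_intCast, sq_abs]
    push_cast
    rfl
  rw [h4]
  exact_mod_cast h3

theorem Chars.value_t (hC : Chars M t n π X₁ X₂ X₃ T f) (h : DHyp t n π) :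
    X₁ t = 1 ∧ X₂ t = mu (r ((n / 2 : ℕ) : ZMod n)) ∧ X₃ t = mu (r ((n / 2 : ℕ) : ZMod n)) := by
  have h1 := hC.val (tt t) _ (half_ne_zero (two_dvd h)) (map_tt h)
  exact ⟨h1.1, h1.2.1, h1.2.2.1⟩

theorem mu_cases (h2 : 2 ∣ n) (j : ZMod n) : mu (r j) = 1 ∨ mu (r j) = -1 := by
  have h1 : mu (r j) * mu (r j) = 1 := by
    rw [mu_r, ← AddChar.map_add_eq_mul, ← add_mul, half_add_half h2, zero_mul,
      AddChar.map_zero_eq_one]
  exact mul_self_eq_one_iff.1 h1

/-- Irreducible characters belonging to a signed character of the block. -/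
theorem inB_irr {B : Set (IrrCharacter G)} {X : G → ℂ} (hX : InB B X) :
    ∃ χ ∈ B, X = (χ : G → ℂ) ∨ X = -(χ : G → ℂ) := hX

theorem inner_ne {X : G → ℂ} {χ ψ : IrrCharacter G} (hX : X = (χ : G → ℂ) ∨ X = -(χ : G → ℂ))
    (h : classInner X (ψ : G → ℂ) = 0) : ψ ≠ χ := by
  rintro rfl
  rcases hX with rfl | rfl
  · rw [Core.classInner_irr_self ψ.2] at h
    exact one_ne_zero h
  · rw [Core.classInner_neg_left, Core.classInner_irr_self ψ.2] at h
    norm_num at h

theorem inner_zero_of_signed {X Y : G → ℂ} {ψ : G → ℂ} (hY : Y = ψ ∨ Y = -ψ)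
    (h : classInner X Y = 0) : classInner X ψ = 0 := by
  rcases hY with rfl | rfl
  · exact h
  · rwa [Core.classInner_neg_right, neg_eq_zero] at h

/-- A character of the principal block orthogonal to the characters of the decomposition vanishes at the involutions. -/
theorem Chars.vanish_involution (hC : Chars M t n π X₁ X₂ X₃ T f) (h : DHyp t n π)
    (hM : IsPModular 2 M) (S : Sylow 2 G) (e : (S : Subgroup G) ≃* DihedralGroup n)
    (htdef : t = ((e.symm (r ((n / 2 : ℕ) : ZMod n)) : (S : Subgroup G)) : G))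
    {χ : IrrCharacter G} (hχ : χ ∈ principalBlock M G)
    (h0 : classInner 1 (χ : G → ℂ) = 0) (h1 : classInner X₁ (χ : G → ℂ) = 0)
    (h2 : classInner X₂ (χ : G → ℂ) = 0) (h3 : classInner X₃ (χ : G → ℂ) = 0)
    (hT : ∀ i, i + i ≠ 0 → classInner (T i) (χ : G → ℂ) = 0)
    (y : G) (hy : orderOf y = 2) : (χ : G → ℂ) y = 0 := by
  classical
  have hfin : Finite (IrrCharacter G) := Core.finite_irr
  have := Fintype.ofFinite (IrrCharacter G)
  have : Fact (Nat.Prime 2) := ⟨Nat.prime_two⟩
  have h2n := two_dvd h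
  by_cases hty : IsConj t y
  · obtain ⟨c, hc⟩ := isConj_iff.1 hty
    rw [← hc, Core.isIrr_isClassFunction χ.2]
    exact hC.vanish h hM hχ h0 h1 h2 h3 hT (tt t) _ (half_ne_zero h2n) (map_tt h)
  · -- the sum of the squares
    have hsum := (S0947.result 2 M hM y ⟨1, by rw [hy, pow_one]⟩
      (by rintro rfl; simp at hy) 1 (by simp)).2 (exists_index_pPrimeCore e y hy)
    have hle := two_part_le S e t htdef y hy hty
    have hle' : ((2 ^ (Nat.card (Subgroup.centralizer ({y} : Set G))).factorization 2 : ℕ) : ℝ) ≤ 4 := by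
      exact_mod_cast hle
    rw [← hsum, finsum_mem_eq_toFinset_sum] at hle'
    simp only [OneMemClass.coe_one, mul_one] at hle'
    -- the four characters
    obtain ⟨χ₁, hB₁, e₁⟩ := inB_irr hC.s₁
    obtain ⟨χ₂, hB₂, e₂⟩ := inB_irr hC.s₂
    obtain ⟨χ₃, hB₃, e₃⟩ := inB_irr hC.s₃
    set χ₀ : IrrCharacter G := ⟨fun _ => 1, Core.isIrr_one⟩ with hχ₀
    have hMp : M.IsPrime := Local.isPrime_of_isPModular hM
    have hB₀ : χ₀ ∈ principalBlock M G := Basic.sameBlock_refl _
    have e₀ : (1 : G → ℂ) = (χ₀ : G → ℂ) ∨ (1 : G → ℂ) = -(χ₀ : G → ℂ) := Or.inl rfl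
    have n0 := inner_ne e₀ h0
    have n1 := inner_ne e₁ h1
    have n2 := inner_ne e₂ h2
    have n3 := inner_ne e₃ h3
    have n10 : χ₁ ≠ χ₀ := inner_ne e₀ (inner_zero_of_signed e₁ (inner_symm_zero hC.ho.one₁))
    have n20 : χ₂ ≠ χ₀ := inner_ne e₀ (inner_zero_of_signed e₂ (inner_symm_zero hC.ho.one₂))
    have n30 : χ₃ ≠ χ₀ := inner_ne e₀ (inner_zero_of_signed e₃ (inner_symm_zero hC.ho.one₃))
    have n21 : χ₂ ≠ χ₁ := inner_ne e₁ (inner_zero_of_signed e₂ hC.ho.x₁₂)
    have n31 : χ₃ ≠ χ₁ := inner_ne e₁ (inner_zero_of_signed e₃ hC.ho.x₁₃)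
    have n32 : χ₃ ≠ χ₂ := inner_ne e₂ (inner_zero_of_signed e₃ hC.ho.x₂₃)
    have hvt := hC.value_t h
    have key : ∀ (X : G → ℂ) (ψ : IrrCharacter G), (X = (ψ : G → ℂ) ∨ X = -(ψ : G → ℂ)) →
        (X t = 1 ∨ X t = -1) → 1 ≤ ‖(ψ : G → ℂ) y‖ ^ 2 := by
      intro X ψ hX hXt
      refine one_le_norm ψ h.orderOf_t hy ?_
      rcases hX with rfl | rfl
      · exact hXt
      · rw [Pi.neg_apply] at hXt
        rcases hXt with hXt | hXt
        · right; rw [← hXt, neg_neg]
        · left; exact neg_injective hXt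
    have k0 := key _ _ e₀ (Or.inl rfl)
    have k1 := key _ _ e₁ (Or.inl hvt.1)
    have k2 := key _ _ e₂ (hvt.2.1 ▸ mu_cases h2n _)
    have k3 := key _ _ e₃ (hvt.2.2 ▸ mu_cases h2n _)
    have hsub : ({χ, χ₀, χ₁, χ₂, χ₃} : Finset (IrrCharacter G)) ⊆
        (principalBlock M G).toFinset := by
      intro ψ hψ
      simp only [Finset.mem_insert, Finset.mem_singleton] at hψ
      rw [Set.mem_toFinset]
      rcases hψ with rfl | rfl | rfl | rfl | rfl <;> assumption
    have h5 := Finset.sum_le_sum_of_subset_of_nonneg (f := fun ψ : IrrCharacter G =>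
      ‖(ψ : G → ℂ) y‖ ^ 2) hsub (fun _ _ _ => by positivity)
    rw [Finset.sum_insert, Finset.sum_insert, Finset.sum_insert, Finset.sum_insert,
      Finset.sum_singleton] at h5
    · have h6 : ‖(χ : G → ℂ) y‖ ^ 2 ≤ 0 := by linarith
      have h7 : ‖(χ : G → ℂ) y‖ = 0 := by
        have : 0 ≤ ‖(χ : G → ℂ) y‖ ^ 2 := by positivity
        have h8 : ‖(χ : G → ℂ) y‖ ^ 2 = 0 := le_antisymm h6 this
        exact pow_eq_zero_iff (two_ne_zero) |>.1 h8
      exact norm_eq_zero.1 h7
    · simpa using n32.symm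
    · simpa using ⟨n21.symm, n31.symm⟩
    · simpa using ⟨n10.symm, n20.symm, n30.symm⟩
    · simpa using ⟨n0, n1, n2, n3⟩

/-- **The principal 2-block** consists of the trivial character and the (unsigned) characters of the decomposition. -/
theorem Chars.complete (hC : Chars M t n π X₁ X₂ X₃ T f) (h : DHyp t n π)
    (hM : IsPModular 2 M) (S : Sylow 2 G) (e : (S : Subgroup G) ≃* DihedralGroup n)
    (htdef : t = ((e.symm (r ((n / 2 : ℕ) : ZMod n)) : (S : Subgroup G)) : G))
    {χ : IrrCharacter G} (hχ : χ ∈ principalBlock M G)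
    (h0 : classInner 1 (χ : G → ℂ) = 0) (h1 : classInner X₁ (χ : G → ℂ) = 0)
    (h2 : classInner X₂ (χ : G → ℂ) = 0) (h3 : classInner X₃ (χ : G → ℂ) = 0)
    (hT : ∀ i, i + i ≠ 0 → classInner (T i) (χ : G → ℂ) = 0) : False := by
  have : Fact (Nat.Prime 2) := ⟨Nat.prime_two⟩
  have hvan := hC.vanish_involution h hM S e htdef hχ h0 h1 h2 h3 hT
  have hfac := S0928.result 2 χ hvan
  obtain ⟨d, hd0, hd⟩ := Core.isIrr_apply_one χ.2
  have hdeg : charDegree (χ : G → ℂ) = d := by
    rw [charDegree, hd]; simp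
  rw [hdeg] at hfac
  have hdvd : d ∣ Nat.card G := by
    obtain ⟨χ, m, ρ, hρ, rfl⟩ := χ
    have := hρ
    have h4 := S0135.result ρ
    have h5 : Module.finrank ℂ (Fin m → ℂ) = d := by
      have h6 : ρ.character 1 = (Module.finrank ℂ (Fin m → ℂ) : ℂ) := by
        rw [Representation.char_one]
      have h7 : ((Module.finrank ℂ (Fin m → ℂ) : ℕ) : ℂ) = d := by
        rw [← h6]; exact hd
      exact_mod_cast h7
    rw [h5] at h4
    exact h4
  have hnd : ¬ 2 ∣ Nat.card G / charDegree (χ : G → ℂ) := by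
    rw [hdeg]
    intro h2
    have h4 : (Nat.card G / d).factorization 2 = 0 := by
      rw [Nat.factorization_div hdvd, Finsupp.tsub_apply, hfac, Nat.sub_self]
    have h5 : Nat.card G / d ≠ 0 := by
      have := Nat.div_pos (Nat.le_of_dvd Nat.card_pos hdvd) hd0
      omega
    have h6 := (Nat.prime_two.dvd_iff_one_le_factorization h5).1 h2
    omega
  have hblock := (S0914.result 2 M hM χ).1 hnd
  have hMp : M.IsPrime := Local.isPrime_of_isPModular hM
  have h8 : (⟨fun _ => 1, Core.isIrr_one⟩ : IrrCharacter G) ∈ blockOf M (χ : G → ℂ) :=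
    Basic.sameBlock_symm hχ
  rw [hblock, Set.mem_singleton_iff] at h8
  have h9 : (χ : G → ℂ) = 1 := (congrArg Subtype.val h8).symm
  rw [h9] at h0
  have h10 := Core.classInner_irr_self (G := G) (χ := 1) Core.isIrr_one
  rw [h0] at h10
  exact zero_ne_one h10

end Vanish

end Cfsg.Agent.H602.Dih
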